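import Cfsg.Agent.H688.Spr.TwoC

/-!
# S3938, the row `PΩ⁻_{2m}(q)`, `m ≥ 5`, final form (helper688)

All cases except `PΩ⁻₁₀(2)` and `PΩ⁻₁₂(2)`.
-/

set_option autoImplicit false
set_option linter.unusedSectionVars false

namespace Cfsg.Agent.H688.Spr

open Cfsg Cfsg.Geo Module
open Cfsg.Agent.H278.Cov Cfsg.Agent.H383.Cov Cfsg.Agent.H688.Cov
open Cfsg.Agent.H424.Spr (Spr)
open Cfsg.Agent.LieClassical.OrthCore (Nondeg)
open Cfsg.Agent.LieClassical.OrthTrans (Good)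
open Cfsg.Agent.LieClassical.OrthForms (minusForm coe_minusForm nondeg_minusForm)
open Cfsg.Agent.H377 (exists_minus)

/-- **`PΩ⁻₁₈(2)`** -/
theorem spr_ominus18 {F : Type} [Field F] [Fintype F] (og : OgO ((Fin 8 ⊕ Fin 8) ⊕ Fin 2) F)
    (hF : Fintype.card F = 2) {a b : F}
    (hab : ∀ z₁ z₂ : F, z₁ ^ 2 + a * z₁ * z₂ + b * z₂ ^ 2 = 0 → z₁ = 0 ∧ z₂ = 0) :
    Spr (POmega F (quadFormMinus 8 F a b)) := by
  have hcard : Fintype.card ((Fin 8 ⊕ Fin 8) ⊕ Fin 2) = 2 * 9 := by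
    simp only [Fintype.card_sum, Fintype.card_fin]
  have hG : Good (minusForm 8 F a b) := by
    rw [AutOrth.Main.minusForm_eq]
    exact AutOrth.Main.good_minus (by omega) hab
  have hmod : Mod (minusForm 8 F a b) 9 (-1) := by
    intro V _ _ _ Q' hV hQ' hs
    obtain ⟨e, he⟩ := exists_minus (m := 9) (by omega) hV Q' hQ' hs hab
    exact ⟨e, fun u => by rw [he, coe_minusForm]⟩
  rw [← Nat.card_eq_fintype_card] at hF
  have key : ∀ α : MulAut (POmega F (quadFormMinus 8 F a b)), AutOrth.Main.Ind (quadFormMinus 8 F a b) α → α ≠ 1 →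
      ∃ x, ∀ K : Subgroup (POmega F (quadFormMinus 8 F a b)), x ∈ K → (∀ k ∈ K, α k ∈ K) → K = ⊤ := by
    rw [← coe_minusForm]
    intro α hα hα1
    exact Two.row_nine hF hG og hcard hmod hα hα1
  intro α hα1
  exact key α (AutOrth.Main.all_minus (by omega) hab α) hα1

/-- **S3938, row `PΩ⁻`** : `hP` is the text of `S5948` -/
theorem spr_ominus' (hP : Cfsg.Agent.H659.CovCore.S5948Stmt.{0}) {m : ℕ} {F : Type} [Field F] [Fintype F]
    (hm : 5 ≤ m) (hq2 : Fintype.card F = 2 → m ≠ 5 ∧ m ≠ 6) {a b : F}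
    (hab : ∀ z₁ z₂ : F, z₁ ^ 2 + a * z₁ * z₂ + b * z₂ ^ 2 = 0 → z₁ = 0 ∧ z₂ = 0)
    [IsSimpleGroup (POmega F (quadFormMinus (m - 1) F a b))]
    (hna : ∃ x y : POmega F (quadFormMinus (m - 1) F a b), x * y ≠ y * x) :
    Spr (POmega F (quadFormMinus (m - 1) F a b)) := by
  by_cases h9 : Fintype.card F = 2 ∧ m = 9
  · obtain ⟨hF, rfl⟩ := h9
    exact spr_ominus18 (ogO_all hP _ F) hF hab
  · exact spr_ominus hP hm (fun h => ⟨(hq2 h).1, (hq2 h).2, fun h' => h9 ⟨h, h'⟩⟩) hab hna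

end Cfsg.Agent.H688.Spr
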