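import Cfsg.Agent.H688.Cov.Frame
import Cfsg.Agent.H424.Spr.Two
import Cfsg.Agent.H925.OrthBasic

/-!
# S3938, orthogonal groups: the frame (helper688)

`spr_gl` : `Spr (POmega F Q)` from two subgroups of `GL`.
-/

set_option autoImplicit false
set_option linter.unusedSectionVars false

namespace Cfsg.Agent.H688.Spr

open Cfsg Cfsg.Geo Module
open Cfsg.Agent.H278.Cov Cfsg.Agent.H383.Cov Cfsg.Agent.H688.Cov
open Cfsg.Agent.H424.Spr (Spr spr_of_two_up)
open Cfsg.Agent.LieClassical.OrthCore (Nondeg)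
open scoped MatrixGroups Matrix

universe u

variable {ι : Type} [Fintype ι] [DecidableEq ι] {F : Type u} [Field F] [Finite F] {Q : QuadraticForm F (ι → F)}

theorem exists_sing (h5 : 5 ≤ Fintype.card ι) : ∃ u : ι → F, u ≠ 0 ∧ Q u = 0 := by
  obtain ⟨w, -, h1, h2⟩ := Cfsg.Agent.LieClassical.OrthFinite.exists_sing_mem (Q := Q) (⊤ : Submodule F (ι → F)) (by
    rw [finrank_top, Module.finrank_fintype_fun_eq_card]
    omega)
  exact ⟨w, h1, h2⟩

theorem center_le (hQ : Nondeg Q) (h5 : 5 ≤ Fintype.card ι) {M : Subgroup (GL ι F)} (hn : (-1 : GL ι F) ∈ M) :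
    (QuotientGroup.mk' (Subgroup.center (Omega F ⇑Q))).ker ≤ M.comap (inc ⇑Q) := by
  intro z hz
  rw [QuotientGroup.ker_mk', Cfsg.Agent.LieClassical.OrthCenter.mem_center_omega_iff
    (Cfsg.Agent.H377.nondegenerate_of_nondeg hQ) (by omega) (exists_sing h5)] at hz
  rw [Subgroup.mem_comap]
  rcases hz with h | h
  · have h1 : inc ⇑Q z = 1 := Units.ext h
    rw [h1]
    exact M.one_mem
  · have h1 : inc ⇑Q z = -1 := Units.ext h
    rw [h1]
    exact hn

/-- **`Spr` from two subgroups of `GL`** -/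
theorem spr_gl (hQ : Nondeg Q) (h5 : 5 ≤ Fintype.card ι) [IsSimpleGroup (POmega F ⇑Q)]
    (hna : ∃ x y : POmega F ⇑Q, x * y ≠ y * x) {s : GL ι F} (hs : s ∈ omegaGL ⇑Q) {M₁ M₂ : Subgroup (GL ι F)}
    (n1 : (-1 : GL ι F) ∈ M₁) (n2 : (-1 : GL ι F) ∈ M₂) (h1 : ¬ omegaGL ⇑Q ≤ M₁) (h2 : ¬ omegaGL ⇑Q ≤ M₂)
    (hnc : ∀ y ∈ omegaGL ⇑Q, (∀ g ∈ omegaGL ⇑Q, g ∈ M₂ ↔ y⁻¹ * g * y ∈ M₁) → ∀ g ∈ omegaGL ⇑Q, g ∈ M₁ ↔ g ∈ M₂)
    (h : ∀ K : Subgroup (GL ι F), K ≤ omegaGL ⇑Q → K ≠ omegaGL ⇑Q → s ∈ K → K ≤ M₁ ∨ K ≤ M₂) :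
    Spr (POmega F ⇑Q) := by
  obtain ⟨s', rfl⟩ := mem_omegaGL.1 hs
  have hne : ∀ M : Subgroup (GL ι F), ¬ omegaGL ⇑Q ≤ M → M.comap (inc ⇑Q) ≠ ⊤ := by
    intro M hM htop
    apply hM
    intro g hg
    obtain ⟨g', rfl⟩ := mem_omegaGL.1 hg
    have : g' ∈ M.comap (inc ⇑Q) := by rw [htop]; trivial
    exact this
  refine spr_of_two_up hna (QuotientGroup.mk' (Subgroup.center (Omega F ⇑Q))) (QuotientGroup.mk'_surjective _) (s := s')
    (M₁ := M₁.comap (inc ⇑Q)) (M₂ := M₂.comap (inc ⇑Q)) (center_le hQ h5 n1) (center_le hQ h5 n2) (hne _ h1)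
    (hne _ h2) ?_ ?_
  · intro y hy
    have h3 := hnc (inc ⇑Q y) (mem_omegaGL.2 ⟨y, rfl⟩) (by
      intro g hg
      obtain ⟨g', rfl⟩ := mem_omegaGL.1 hg
      have h4 : g' ∈ M₂.comap (inc ⇑Q) ↔ g' ∈ (M₁.comap (inc ⇑Q)).map (MulAut.conj y).toMonoidHom := by rw [hy]
      rw [Subgroup.mem_comap] at h4
      rw [h4, ← map_inv, ← map_mul, ← map_mul]
      constructor
      · rintro ⟨k, hk, hkg⟩
        have h5 : y⁻¹ * g' * y = k := by
          rw [← hkg]
          change y⁻¹ * (y * k * y⁻¹) * y = k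
          group
        rw [h5]
        exact hk
      · intro hk
        refine ⟨y⁻¹ * g' * y, hk, ?_⟩
        change y * (y⁻¹ * g' * y) * y⁻¹ = g'
        group)
    ext g
    exact h3 _ (mem_omegaGL.2 ⟨g, rfl⟩)
  · intro K _ hsK hK
    have h3 := h (K.map (inc ⇑Q)) (by
      rw [← range_inc]
      exact Subgroup.map_le_range _ _) (by
      intro he
      apply hK
      rw [← range_inc, MonoidHom.range_eq_map] at he
      exact Subgroup.map_injective inc_injective he) (Subgroup.mem_map_of_mem _ hsK)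
    exact h3.imp (fun h => Subgroup.map_le_iff_le_comap.1 h) fun h => Subgroup.map_le_iff_le_comap.1 h

/-- the stabiliser of a proper nonzero subspace does not contain `Ω` -/
theorem not_le_stab (hQ : Nondeg Q) (h5 : 5 ≤ Fintype.card ι) {W : Submodule F (ι → F)} (h0 : W ≠ ⊥) (h1 : W ≠ ⊤) :
    ¬ omegaGL ⇑Q ≤ subspaceStabilizer W := by
  intro h
  rcases Cfsg.Agent.H925.omegaGL_irreducible (isND hQ) h5 W (fun g hg w hw => (h hg w).1 hw) with h2 | h2
  · exact h0 h2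
  · exact h1 h2

theorem neg_one_mem_stab (W : Submodule F (ι → F)) : (-1 : GL ι F) ∈ subspaceStabilizer W := by
  intro v
  change v ∈ W ↔ (((-1 : GL ι F) : Matrix ι ι F)) *ᵥ v ∈ W
  rw [Units.val_neg, Units.val_one, Matrix.neg_mulVec, Matrix.one_mulVec, Submodule.neg_mem_iff]

theorem mem_stab {W : Submodule F (ι → F)} {g : GL ι F} :
    g ∈ subspaceStabilizer W ↔ ∀ w ∈ W, (g : Matrix ι ι F) *ᵥ w ∈ W := by
  constructor
  · exact fun h w hw => (h w).1 hw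
  · intro h
    have hmap : W.map (eqv g : (ι → F) →ₗ[F] (ι → F)) = W := by
      apply Submodule.eq_of_le_of_finrank_eq
      · rintro _ ⟨w, hw, rfl⟩
        exact h w hw
      · exact LinearEquiv.finrank_map_eq (eqv g) W
    intro v
    constructor
    · exact fun hv => h v hv
    · intro hv
      have hv' : (g : Matrix ι ι F) *ᵥ v ∈ W := hv
      rw [← hmap] at hv'
      obtain ⟨w, hw, hwv⟩ := hv'
      have : w = v := (eqv g).injective hwv
      exact this ▸ hw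

end Cfsg.Agent.H688.Spr
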