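import Cfsg.Agent.H688.Spr.Herm
import Cfsg.Agent.H688.Spr.Frame
import Cfsg.Agent.H688.Cov.OMinus

/-!
# S3938, orthogonal groups of minus type: the element `neg j + Tm` (helper688)
-/

set_option autoImplicit false
set_option linter.unusedSectionVars false

namespace Cfsg.Agent.H688.Spr

open Cfsg Cfsg.Geo Module
open Cfsg.Agent.H278.Cov Cfsg.Agent.H383.Cov Cfsg.Agent.H688.Cov
open Cfsg.Agent.LieClassical.OrthCore (Nondeg)
open Cfsg.Agent.H377 (HasSign sumQ sumQ_apply sumQ_nondeg elt_tor_minus prodMap_pow' orderOf_prodMap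
  nondegenerate_of_nondeg)
open Cfsg.Agent.ClassicalGeometry.OrthDickson Cfsg.Agent.ClassicalGeometry.OrthCharTwo
open Cfsg.Agent.ClassicalGeometry.Reflection
open scoped MatrixGroups Matrix

section mem

variable {ι : Type} [Fintype ι] [DecidableEq ι] {F : Type} [Field F] [Finite F] {Q : QuadraticForm F (ι → F)}

/-- in characteristic two, an isometry without fixed vector in even dimension lies in `Ω` -/
theorem mem_of_two (h2 : (2 : F) = 0) (hQ : Nondeg Q) (h5 : 5 ≤ Fintype.card ι) (hev : Even (Fintype.card ι))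
    {x : GL ι F} (hx : x ∈ isometryGroup F ⇑Q) (hfix : ∀ v, (x : Matrix ι ι F) *ᵥ v = v → v = 0) :
    x ∈ omegaGL ⇑Q := by
  have hQ' := nondegenerate_of_nondeg hQ
  have hne : Nonempty ι := by
    rw [← Fintype.card_pos_iff]
    omega
  have hor : (∃ θ : F, θ ≠ 0 ∧ θ ≠ 1) ∨ Fintype.card ι ≠ 4 := Or.inr (by omega)
  obtain ⟨u, hu⟩ : ∃ u, Q u ≠ 0 := by
    by_contra hcon
    push Not at hcon
    obtain ⟨i⟩ := hne
    have h1 : (Pi.single i (1 : F) : ι → F) = 0 := by
      apply hQ
      intro y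
      rw [QuadraticMap.polar, hcon, hcon, hcon]
      ring
    have h3 := congrFun h1 i
    simp at h3
  set g : isometryGroup F ⇑Q := ⟨x, hx⟩ with hg
  have hds : dsign Q g = 1 := by
    rw [dsign_def]
    have h1 : fixSp g = ⊥ := by
      rw [Submodule.eq_bot_iff]
      intro v hv
      exact hfix v (mem_fixSp.1 hv)
    rw [h1, finrank_bot, zero_add]
    exact hev.neg_one_pow
  have hgm : g ∈ commutator (isometryGroup F ⇑Q) := by
    by_contra hgn
    have hun : reflIso Q u hu ∉ commutator (isometryGroup F ⇑Q) := refl_notMem_commutator Q hQ' hor u hu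
    have h1 : g * reflIso Q u hu ∈ commutator (isometryGroup F ⇑Q) :=
      (Subgroup.mul_mem_iff_of_index_two (index_commutator_two Q h2 hQ' hor)).2 (iff_of_false hgn hun)
    have h3 := dsign_eq_one_of_mem_commutator Q hQ' hor _ h1
    have h4 := dsign_mul_of_gen Q hQ' hor g (reflIso Q u hu)
    rw [h3, hds, dsign_refl Q hQ', one_mul] at h4
    exact absurd h4 (by decide)
  exact ⟨g, hgm, rfl⟩

/-- commutators of isometries lie in `Ω` -/
theorem comm_mem {a b : GL ι F} (ha : a ∈ isometryGroup F ⇑Q) (hb : b ∈ isometryGroup F ⇑Q) :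
    a * b * a⁻¹ * b⁻¹ ∈ omegaGL ⇑Q := by
  set A : isometryGroup F ⇑Q := ⟨a, ha⟩ with hA
  set B : isometryGroup F ⇑Q := ⟨b, hb⟩ with hB
  have h1 : A * B * A⁻¹ * B⁻¹ ∈ commutator (isometryGroup F ⇑Q) :=
    Subgroup.commutator_mem_commutator (Subgroup.mem_top A) (Subgroup.mem_top B)
  have h2 := Subgroup.mem_map_of_mem (isometryGroup F ⇑Q).subtype h1
  rw [map_mul, map_mul, map_mul, map_inv, map_inv] at h2
  exact h2

end mem

section

variable {ι : Type} [Fintype ι] [DecidableEq ι] {F : Type} [Field F] [Finite F]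
  {V : Type} [AddCommGroup V] [Module F V] {e : (ι → F) ≃ₗ[F] V}

theorem IsM.unique {x y : GL ι F} {T : Module.End F V} (hx : IsM e x T) (hy : IsM e y T) : x = y := by
  apply Units.ext
  apply Matrix.toLin'.injective
  rw [hx, hy]

theorem IsM.inv {x : GL ι F} {T T' : Module.End F V} (hx : IsM e x T) (hT : T * T' = 1) : IsM e x⁻¹ T' := by
  apply isM_of_apply
  intro v
  have h1 : (x : Matrix ι ι F) *ᵥ (e.symm (T' (e v))) = v := by
    rw [hx.apply, e.apply_symm_apply, ← Module.End.mul_apply, hT, Module.End.one_apply, e.symm_apply_apply]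
  have h2 : ((x⁻¹ : GL ι F) : Matrix ι ι F) *ᵥ ((x : Matrix ι ι F) *ᵥ (e.symm (T' (e v)))) = e.symm (T' (e v)) := by
    rw [Matrix.mulVec_mulVec, ← Units.val_mul, inv_mul_cancel, Units.val_one, Matrix.one_mulVec]
  rwa [h1] at h2

end

section elt

variable {ι : Type} [Fintype ι] [DecidableEq ι] {F : Type} [Field F] [Finite F] {Q : QuadraticForm F (ι → F)}
  {K : Type} [Field K] [Finite K] [Algebra F K] {σ : K ≃ₐ[F] K} {c ε : K}

/-- the data of the element `neg j + Tm` -/
structure TD (Q : QuadraticForm F (ι → F)) (h j : ℕ) (σ : K ≃ₐ[F] K) (c ε : K) (x : GL ι F)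
    (Q₁ : QuadraticForm F (Fin (2 * j) → F)) (S : Module.End F (Fin (2 * j) → F))
    (e : (ι → F) ≃ₗ[F] ((Fin (2 * j) → F) × (K × K))) (N s s' : ℕ) : Prop where
  hd : HD h σ c ε
  mem : x ∈ omegaGL ⇑Q
  isM : IsM e x (S.prodMap (Tm F c ε))
  form : ∀ u, sumQ Q₁ (hermQ σ) (e u) = Q u
  num : Num (Nat.card F) (Fintype.card ι) (2 * j) N
  pow : S ^ N = 1
  ker : LinearMap.ker (S - 1) = ⊥
  s1 : S ^ s = S
  t1 : Tm F c ε ^ s = 1
  s2 : S ^ s' = 1
  t2 : Tm F c ε ^ s' = Tm F c ε
  blk : Blk (2 * j) (x ^ s)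
  ord : orderOf (x ^ s) = N
  dvd : N ∣ Nat.card F ^ j + 1

theorem exists_TD (hQ : Nondeg Q) {m j h N : ℕ} (hcard : Fintype.card ι = 2 * m) (hjh : j + 2 * h = m)
    (hnum : Num (Nat.card F) (Fintype.card ι) (2 * j) N) (hd : HD h σ c ε) (hmod : Mod Q m (-1)) :
    ∃ x Q₁ S e s s', TD Q h j σ c ε x Q₁ S e N s s' := by
  have hfd : FiniteDimensional F K := Module.Finite.of_finite
  have hq : 2 ≤ Nat.card F := Finite.one_lt_card
  obtain ⟨h1, hodd, hcq, hN1, hj⟩ := num_facts hq hnum
  have hh := hd.pos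
  have hlt := hnum.lt
  have h10 := hnum.ten
  obtain ⟨-, Q₁, S, nd₁, sg₁, is₁, os₁⟩ := elt_tor_minus (F := F) hj h1
  have hSN : S ^ N = 1 := by rw [← os₁]; exact pow_orderOf_eq_one S
  have hdim₁ : finrank F (Fin (2 * j) → F) = 2 * j := Module.finrank_fin_fun F
  have hdimK : finrank F (K × K) = 2 * (2 * h) := by rw [Module.finrank_prod, hd.dim]; ring
  have hsgn : HasSign (⇑(hermQ σ)) (2 * h) 1 := by
    have := hermQ_sign (F := F) σ
    rwa [hd.dim] at this
  obtain ⟨e, he⟩ := hmod ((Fin (2 * j) → F) × (K × K)) (sumQ Q₁ (hermQ σ)) (by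
    rw [Module.finrank_prod, hdim₁, hdimK, ← hjh]
    ring) (sumQ_nondeg nd₁ (hermQ_nondeg σ)) (by
      have := sg₁.prod hsgn
      rwa [hjh, mul_one] at this)
  have hker : LinearMap.ker (S - 1) = ⊥ := by
    refine ker_sub_one hSN hcq hnum.prim hdim₁ ?_
    rintro rfl
    rw [orderOf_one] at os₁
    omega
  -- the exponent of `Tm`
  obtain ⟨p, _⟩ := CharP.exists K
  have hp : p.Prime := (CharP.char_is_prime_or_zero K p).resolve_right (CharP.char_ne_zero_of_finite K p)
  have hpF : CharP F p := (RingHom.charP_iff (algebraMap F K) (algebraMap F K).injective p).2 inferInstance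
  have hpq : p ∣ Nat.card F := by
    have := Fintype.ofFinite F
    rw [← CharP.cast_eq_zero_iff F p, Nat.card_eq_fintype_card]
    exact Nat.cast_card_eq_zero F
  have hTM : Tm F c ε ^ ((Nat.card F ^ h + 1) * p) = 1 := by
    have hc1 : c ^ (Nat.card F ^ h + 1) = 1 := by
      rw [← hd.ord]
      exact pow_orderOf_eq_one c
    rw [Tm_pow, pow_mul, hc1, one_pow, Nat.cast_mul, CharP.cast_eq_zero K p, mul_zero, zero_mul, Tm_one]
  have hNM : N.Coprime ((Nat.card F ^ h + 1) * p) := by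
    refine Nat.Coprime.mul_right ?_ (Nat.Coprime.coprime_dvd_right hpq hcq)
    refine num_coprime hnum (c := 2 * h) ?_ (by omega) (by omega)
    have h3 := Nat.sq_sub_sq (Nat.card F ^ h) 1
    rw [one_pow, ← pow_mul, mul_comm h 2] at h3
    rw [h3]
    exact Dvd.intro _ rfl
  have hisT : ∀ v, sumQ Q₁ (hermQ σ) ((S.prodMap (Tm F c ε)) v) = sumQ Q₁ (hermQ σ) v := sumQ_isom is₁ hd.isom
  obtain ⟨x, hxI, hx⟩ := exists_gl hQ he hisT
  have hc1 : c ≠ 1 := by
    intro h0
    have := hd.ord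
    rw [h0, orderOf_one] at this
    have h4 : 0 < Nat.card F ^ h := Nat.pow_pos (by omega)
    omega
  have hmem : x ∈ omegaGL ⇑Q := by
    by_cases h2 : (2 : F) = 0
    · refine mem_of_two h2 hQ (by omega) ⟨m, by omega⟩ hxI ?_
      intro v hv
      rw [hx.apply] at hv
      have hv' : (S.prodMap (Tm F c ε)) (e v) = e v := by
        rw [← e.apply_symm_apply ((S.prodMap (Tm F c ε)) (e v)), hv]
      have a1 : (e v).1 = 0 := fix_eq_zero hker (congrArg Prod.fst hv')
      have a2 : Tm F c ε (e v).2 = (e v).2 := congrArg Prod.snd hv'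
      rw [Tm_apply] at a2
      have a3 : c * (e v).2.2 = (e v).2.2 := congrArg Prod.snd a2
      have a4 : (e v).2.2 = 0 := by
        have : (c - 1) * (e v).2.2 = 0 := by linear_combination a3
        exact (mul_eq_zero.1 this).resolve_left (sub_ne_zero.2 hc1)
      have a5 : c * ((e v).2.1 + ε * (e v).2.2) = (e v).2.1 := congrArg Prod.fst a2
      rw [a4, mul_zero, add_zero] at a5
      have a6 : (e v).2.1 = 0 := by
        have : (c - 1) * (e v).2.1 = 0 := by linear_combination a5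
        exact (mul_eq_zero.1 this).resolve_left (sub_ne_zero.2 hc1)
      rw [← LinearEquiv.map_eq_zero_iff e]
      exact Prod.ext a1 (Prod.ext a6 a4)
    · -- odd characteristic
      have hpodd : Odd p := by
        refine hp.odd_of_ne_two ?_
        rintro rfl
        apply h2
        have := CharP.cast_eq_zero F 2
        exact_mod_cast this
      have hu : ∀ v, hermQ σ (Tm F 1 ε v) = hermQ σ v := by
        obtain ⟨δ, hδ⟩ := hd.eps
        exact Tm_isom hd.invol (by rw [map_one, one_mul]) hδ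
      have hup : Tm F (1 : K) ε ^ p = 1 := by
        rw [Tm_pow, one_pow, CharP.cast_eq_zero, zero_mul, Tm_one]
      obtain ⟨x₁, hx₁, hM₁⟩ := exists_odd hQ (by omega) he (sumQ_isom is₁ hu) (by
        rw [orderOf_prodMap, os₁]
        refine Odd.of_dvd_nat (hodd.mul hpodd) ?_
        exact (Nat.lcm_dvd_mul _ _).trans (Nat.mul_dvd_mul_left _ (orderOf_dvd_of_pow_eq_one hup)))
      obtain ⟨A, B, A', B', hA, hB, hAA, hBB, hcomm⟩ := hd.comm
      obtain ⟨a, haI, ha⟩ := exists_gl hQ he (T := (1 : Module.End F (Fin (2 * j) → F)).prodMap A)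
        (sumQ_isom (fun _ => rfl) hA)
      obtain ⟨b, hbI, hb⟩ := exists_gl hQ he (T := (1 : Module.End F (Fin (2 * j) → F)).prodMap B)
        (sumQ_isom (fun _ => rfl) hB)
      have hpm : ∀ (R R' : Module.End F (K × K)) (U U' : Module.End F (Fin (2 * j) → F)),
          (U.prodMap R * U'.prodMap R' : Module.End F ((Fin (2 * j) → F) × (K × K))) =
            (U * U').prodMap (R * R') := fun _ _ _ _ => rfl
      have ha' := IsM.inv ha (T' := (1 : Module.End F (Fin (2 * j) → F)).prodMap A') (by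
        rw [hpm, hAA, one_mul]; rfl)
      have hb' := IsM.inv hb (T' := (1 : Module.End F (Fin (2 * j) → F)).prodMap B') (by
        rw [hpm, hBB, one_mul]; rfl)
      have hab := ((ha.mul hb).mul ha').mul hb'
      rw [hpm, hpm, hpm, hcomm, one_mul, one_mul, one_mul] at hab
      have hprod := hM₁.mul hab
      rw [hpm, mul_one, Tm_mul, one_mul, add_zero] at hprod
      rw [IsM.unique hx hprod]
      exact Subgroup.mul_mem _ hx₁ (comm_mem haI hbI)
  obtain ⟨s, hs, ht⟩ := exists_sep hSN hTM hNM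
  obtain ⟨s', hs', ht'⟩ := exists_sep hTM hSN hNM.symm
  have hxs : IsM e (x ^ s) (S.prodMap (1 : Module.End F (K × K))) := by
    have := hx.pow s
    rwa [prodMap_pow', hs, ht] at this
  have hos : orderOf (x ^ s) = N := by
    rw [hxs.orderOf, orderOf_prodMap, os₁, orderOf_one, Nat.lcm_one_right]
  refine ⟨x, Q₁, S, e, s, s', hd, hmem, hx, he, hnum, hSN, hker, hs, ht, ht', hs', ⟨?_, ?_, ?_⟩, hos, h1⟩
  · rwa [hos]
  · rw [hos]; exact hnum.prim
  · rw [hxs.finrank_range, finrank_range_prod_one, finrank_range_of_ker hker, hdim₁]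

end elt

end Cfsg.Agent.H688.Spr
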