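import Cfsg.Agent.H688.Spr.Frame
import Cfsg.Agent.H688.Cov.Star
import Cfsg.Agent.H688.Cov.OMinus

/-!
# S3938, orthogonal groups of minus type: the row with an irreducible element (helper688)

* `field_unique` : two fields of matrices of the same degree centralised by an irreducible element are equal;
* `row_field` : `Spr (PΩ⁻_{2m}(q))` when `2 m` has at most two prime divisors.
-/

set_option autoImplicit false
set_option linter.unusedSectionVars false

namespace Cfsg.Agent.H688.Spr

open Cfsg Cfsg.Geo Module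
open Cfsg.Agent.H278.Cov Cfsg.Agent.H383.Cov Cfsg.Agent.H688.Cov
open Cfsg.Agent.H424.Spr (Spr)
open Cfsg.Agent.LieClassical.OrthCore (Nondeg)
open scoped MatrixGroups Matrix

universe u

section unique

variable {ι : Type} [Fintype ι] [DecidableEq ι] {F : Type u} [Field F] [Finite F]

/-- an endomorphism commuting with an irreducible `x` is zero or injective -/
theorem schur {x a : Matrix ι ι F} (hirr : ∀ W : Submodule F (ι → F), (∀ w ∈ W, x *ᵥ w ∈ W) → W = ⊥ ∨ W = ⊤)
    (hc : x * a = a * x) (ha : a ≠ 0) {v : ι → F} (hv : a *ᵥ v = 0) : v = 0 := by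
  rcases hirr (LinearMap.ker (Matrix.toLin' a)) (by
    intro w hw
    rw [LinearMap.mem_ker, Matrix.toLin'_apply] at hw ⊢
    rw [Matrix.mulVec_mulVec, ← hc, ← Matrix.mulVec_mulVec, hw, Matrix.mulVec_zero]) with h | h
  · have h1 : v ∈ LinearMap.ker (Matrix.toLin' a) := by
      rw [LinearMap.mem_ker, Matrix.toLin'_apply, hv]
    rw [h] at h1
    exact (Submodule.mem_bot F).1 h1
  · exfalso
    apply ha
    rw [LinearMap.ker_eq_top] at h
    exact Matrix.toLin'.injective (by rw [h, map_zero])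

theorem mem_adjoin [Nonempty ι] {x a : Matrix ι ι F}
    (hirr : ∀ W : Submodule F (ι → F), (∀ w ∈ W, x *ᵥ w ∈ W) → W = ⊥ ∨ W = ⊤)
    (hc : x * a = a * x) : a ∈ Algebra.adjoin F {x} := by
  obtain ⟨h, hh⟩ := exists_aeval (g := Matrix.toLin' x) (e := Matrix.toLin' a) (Y := ⊤) (by
    change Matrix.toLin' a * Matrix.toLin' x = Matrix.toLin' x * Matrix.toLin' a
    change Matrix.toLin' a ∘ₗ Matrix.toLin' x = Matrix.toLin' x ∘ₗ Matrix.toLin' a
    rw [← Matrix.toLin'_mul, ← Matrix.toLin'_mul, hc]) (fun _ _ => trivial) (fun _ _ => trivial) (by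
    intro W _ hW
    exact hirr W fun w hw => hW w hw) (by
      intro h
      exact bot_ne_top h.symm)
  have h1 : a = Polynomial.aeval x h := by
    apply Matrix.toLin'.injective
    apply LinearMap.ext
    intro v
    rw [hh v trivial]
    have h2 : Polynomial.aeval (Matrix.toLin' x) h = Matrix.toLin' (Polynomial.aeval x h) := by
      have h3 := Polynomial.aeval_algHom_apply (Matrix.toLinAlgEquiv' : Matrix ι ι F ≃ₐ[F] _) x h
      exact h3
    rw [h2]
  rw [h1]
  exact Polynomial.aeval_mem_adjoin_singleton F x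

open Polynomial in
/-- **uniqueness of the field** -/
theorem field_le [Nonempty ι] {x : Matrix ι ι F}
    (hirr : ∀ W : Submodule F (ι → F), (∀ w ∈ W, x *ᵥ w ∈ W) → W = ⊥ ∨ W = ⊤) {r : ℕ}
    {E E' : Subalgebra F (Matrix ι ι F)} (hE : IsFieldSubalgebra r E) (hE' : IsFieldSubalgebra r E')
    (hc : ∀ e ∈ E, x * e = e * x) (hc' : ∀ e ∈ E', x * e = e * x) : E' ≤ E := by
  classical
  have := Fintype.ofFinite F
  let _ : CommRing (Algebra.adjoin F {x}) := Algebra.adjoinCommRingOfComm F (by
    intro a ha b hb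
    rw [Set.mem_singleton_iff.1 ha, Set.mem_singleton_iff.1 hb])
  have hcD : ∀ a ∈ Algebra.adjoin F {x}, x * a = a * x := by
    intro a ha
    have h1 := mul_comm (⟨x, Algebra.self_mem_adjoin_singleton F x⟩ : Algebra.adjoin F {x}) ⟨a, ha⟩
    exact congrArg Subtype.val h1
  have : NoZeroDivisors (Algebra.adjoin F {x}) := ⟨by
    intro a b hab
    by_cases ha : a = 0
    · exact Or.inl ha
    · right
      apply Subtype.ext
      have ha' : (a : Matrix ι ι F) ≠ 0 := fun h => ha (Subtype.ext h)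
      have hab' : (a : Matrix ι ι F) * (b : Matrix ι ι F) = 0 := congrArg Subtype.val hab
      apply Matrix.toLin'.injective
      apply LinearMap.ext
      intro v
      rw [Matrix.toLin'_apply]
      have h1 : (a : Matrix ι ι F) *ᵥ ((b : Matrix ι ι F) *ᵥ v) = 0 := by
        rw [Matrix.mulVec_mulVec, hab', Matrix.zero_mulVec]
      rw [schur hirr (hcD a a.2) ha' h1]
      change (0 : ι → F) = Matrix.toLin' (0 : Matrix ι ι F) v
      rw [map_zero, LinearMap.zero_apply]⟩
  have : Nontrivial (Algebra.adjoin F {x}) := by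
    refine ⟨⟨0, 1, fun h => ?_⟩⟩
    have h1 : (0 : Matrix ι ι F) = 1 := congrArg Subtype.val h
    exact zero_ne_one h1
  have : IsDomain (Algebra.adjoin F {x}) := NoZeroDivisors.to_isDomain _
  have hED : ∀ e ∈ E, e ∈ Algebra.adjoin F {x} := fun e he => mem_adjoin hirr (hc e he)
  have hED' : ∀ e ∈ E', e ∈ Algebra.adjoin F {x} := fun e he => mem_adjoin hirr (hc' e he)
  have hfinE : Finite E := inferInstance
  have := Fintype.ofFinite E
  have hcard : Fintype.card E = Fintype.card F ^ r := by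
    rw [← Nat.card_eq_fintype_card, Cfsg.Agent.H907.card_K hE]
  have hpos : 0 < Fintype.card F ^ r - 1 := by
    have h1 : 1 < Fintype.card E := by
      have : Nontrivial E := ⟨⟨0, 1, fun h => by
        have h1 : (0 : Matrix ι ι F) = 1 := congrArg Subtype.val h
        exact zero_ne_one h1⟩⟩
      exact Fintype.one_lt_card
    omega
  -- the nonzero elements of `E`
  let g : E → Algebra.adjoin F {x} := fun e => ⟨e, hED e e.2⟩
  have hg : Function.Injective g := fun a b hab => Subtype.ext (congrArg (fun z : Algebra.adjoin F {x} => (z : Matrix ι ι F)) hab)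
  set fE : Finset (Algebra.adjoin F {x}) := ((Finset.univ : Finset E).erase 0).image g with hfE
  have hfEcard : fE.card = Fintype.card F ^ r - 1 := by
    rw [hfE, Finset.card_image_of_injective _ hg, Finset.card_erase_of_mem (Finset.mem_univ _), Finset.card_univ, hcard]
  have hval : ∀ (z : Algebra.adjoin F {x}) (n : ℕ), ((z ^ n : Algebra.adjoin F {x}) : Matrix ι ι F) =
      (z : Matrix ι ι F) ^ n := by
    intro z n
    induction n with
    | zero => rw [pow_zero, pow_zero]; rfl
    | succ n ih => rw [pow_succ, pow_succ, ← ih]; rfl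
  intro e he
  by_contra hne
  have he0 : e ≠ 0 := by
    rintro rfl
    exact hne E.zero_mem
  set e' : Algebra.adjoin F {x} := ⟨e, hED' e he⟩ with he'
  have hnot : e' ∉ fE := by
    intro h
    rw [hfE, Finset.mem_image] at h
    obtain ⟨a, -, ha⟩ := h
    apply hne
    have : (a : Matrix ι ι F) = e := congrArg (fun z : Algebra.adjoin F {x} => (z : Matrix ι ι F)) ha
    rw [← this]
    exact a.2
  have hsub : insert e' fE ⊆ (nthRoots (Fintype.card F ^ r - 1) (1 : Algebra.adjoin F {x})).toFinset := by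
    intro z hz
    rw [Multiset.mem_toFinset, mem_nthRoots hpos]
    apply Subtype.ext
    rw [hval]
    rcases Finset.mem_insert.1 hz with rfl | hz
    · exact Cfsg.Agent.H907.pow_card_sub_one hE' he he0
    · rw [hfE, Finset.mem_image] at hz
      obtain ⟨a, ha, rfl⟩ := hz
      refine Cfsg.Agent.H907.pow_card_sub_one hE a.2 ?_
      intro h0
      exact (Finset.mem_erase.1 ha).1 (Subtype.ext h0)
  have h1 := Finset.card_le_card hsub
  rw [Finset.card_insert_of_notMem hnot, hfEcard] at h1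
  have h2 := Multiset.toFinset_card_le (nthRoots (Fintype.card F ^ r - 1) (1 : Algebra.adjoin F {x}))
  have h3 := card_nthRoots (Fintype.card F ^ r - 1) (1 : Algebra.adjoin F {x})
  omega

theorem field_unique [Nonempty ι] {x : Matrix ι ι F}
    (hirr : ∀ W : Submodule F (ι → F), (∀ w ∈ W, x *ᵥ w ∈ W) → W = ⊥ ∨ W = ⊤) {r : ℕ}
    {E E' : Subalgebra F (Matrix ι ι F)} (hE : IsFieldSubalgebra r E) (hE' : IsFieldSubalgebra r E')
    (hc : ∀ e ∈ E, x * e = e * x) (hc' : ∀ e ∈ E', x * e = e * x) : E' = E :=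
  le_antisymm (field_le hirr hE hE' hc hc') (field_le hirr hE' hE hc' hc)

/-- conjugation -/
def cj (y : GL ι F) : Matrix ι ι F →ₐ[F] Matrix ι ι F where
  toFun a := (y : Matrix ι ι F) * a * ((y⁻¹ : GL ι F) : Matrix ι ι F)
  map_one' := by rw [mul_one, ← Units.val_mul, mul_inv_cancel, Units.val_one]
  map_mul' a b := by
    have h : ((y⁻¹ : GL ι F) : Matrix ι ι F) * (y : Matrix ι ι F) = 1 := by
      rw [← Units.val_mul, inv_mul_cancel, Units.val_one]
    calc (y : Matrix ι ι F) * (a * b) * ((y⁻¹ : GL ι F) : Matrix ι ι F)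
        = (y : Matrix ι ι F) * a * 1 * b * ((y⁻¹ : GL ι F) : Matrix ι ι F) := by simp only [mul_one, mul_assoc]
      _ = _ := by rw [← h]; simp only [mul_assoc]
  map_zero' := by rw [mul_zero, zero_mul]
  map_add' a b := by rw [mul_add, add_mul]
  commutes' c := by
    rw [← Algebra.commutes, mul_assoc, ← Units.val_mul, mul_inv_cancel, Units.val_one, mul_one]

theorem cj_apply (y : GL ι F) (a : Matrix ι ι F) :
    cj y a = (y : Matrix ι ι F) * a * ((y⁻¹ : GL ι F) : Matrix ι ι F) := rfl

theorem cj_mul (y z : GL ι F) (a : Matrix ι ι F) : cj (y * z) a = cj y (cj z a) := by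
  rw [cj_apply, cj_apply, cj_apply, mul_inv_rev, Units.val_mul, Units.val_mul]
  simp only [mul_assoc]

theorem cj_one (a : Matrix ι ι F) : cj (1 : GL ι F) a = a := by
  rw [cj_apply, inv_one, Units.val_one, one_mul, mul_one]

theorem cj_injective (y : GL ι F) : Function.Injective (cj y : Matrix ι ι F → Matrix ι ι F) := by
  intro a b h
  have h1 := congrArg (cj y⁻¹) h
  rwa [← cj_mul, ← cj_mul, inv_mul_cancel, cj_one, cj_one] at h1

theorem cj_field (y : GL ι F) {r : ℕ} {E : Subalgebra F (Matrix ι ι F)} (hE : IsFieldSubalgebra r E) :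
    IsFieldSubalgebra r (E.map (cj y)) where
  comm := by
    rintro _ ⟨a, ha, rfl⟩ _ ⟨b, hb, rfl⟩
    change cj y a * cj y b = cj y b * cj y a
    rw [← map_mul, ← map_mul, hE.comm a ha b hb]
  inv := by
    rintro _ ⟨a, ha, rfl⟩ h0
    obtain ⟨b, hb, hab⟩ := hE.inv a ha (by
      rintro rfl
      exact h0 (map_zero _))
    refine ⟨cj y b, ⟨b, hb, rfl⟩, ?_⟩
    change cj y a * cj y b = 1
    rw [← map_mul, hab, map_one]
  finrank_eq := by
    rw [← hE.finrank_eq]
    exact ((Subalgebra.equivMapOfInjective E (cj y) (cj_injective y)).toLinearEquiv.finrank_eq).symm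

theorem mem_normalizer_iff {g : GL ι F} {E : Subalgebra F (Matrix ι ι F)} :
    g ∈ subalgebraNormalizer E ↔ ∀ k, k ∈ E ↔ cj g k ∈ E := Iff.rfl

theorem mem_map_cj {y : GL ι F} {E : Subalgebra F (Matrix ι ι F)} {a : Matrix ι ι F} :
    a ∈ E.map (cj y) ↔ cj y⁻¹ a ∈ E := by
  constructor
  · rintro ⟨b, hb, rfl⟩
    change cj y⁻¹ (cj y b) ∈ E
    rwa [← cj_mul, inv_mul_cancel, cj_one]
  · intro h
    refine ⟨_, h, ?_⟩
    change cj y (cj y⁻¹ a) = a
    rw [← cj_mul, mul_inv_cancel, cj_one]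

theorem mem_normalizer_map {y g : GL ι F} {E : Subalgebra F (Matrix ι ι F)} :
    g ∈ subalgebraNormalizer (E.map (cj y)) ↔ y⁻¹ * g * y ∈ subalgebraNormalizer E := by
  rw [mem_normalizer_iff, mem_normalizer_iff]
  constructor
  · intro h k
    have h1 := h (cj y k)
    rw [mem_map_cj, mem_map_cj, ← cj_mul, ← cj_mul, ← cj_mul, inv_mul_cancel, cj_one] at h1
    exact h1
  · intro h k
    have h1 := h (cj y⁻¹ k)
    rw [mem_map_cj, mem_map_cj, ← cj_mul]
    rw [← cj_mul, show y⁻¹ * g * y * y⁻¹ = y⁻¹ * g by group] at h1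
    exact h1

theorem neg_one_mem_normalizer (E : Subalgebra F (Matrix ι ι F)) : (-1 : GL ι F) ∈ subalgebraNormalizer E := by
  rw [mem_normalizer_iff]
  intro k
  have h : cj (-1 : GL ι F) k = k := by
    rw [cj_apply, inv_neg, inv_one, Units.val_neg, Units.val_one, neg_one_mul, mul_neg_one, neg_neg]
  rw [h]

end unique

section row

variable {ι : Type} [Fintype ι] [DecidableEq ι] {F : Type} [Field F] [Finite F] {Q : QuadraticForm F (ι → F)}

/-- **the row with an irreducible element** -/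
theorem row_field [Nonempty ι] (hQ : Nondeg Q) (og : OgO ι F) {m N r₀ : ℕ} (hcard : Fintype.card ι = 2 * m)
    (hmod : Mod Q m (-1)) (hN : Num (Nat.card F) (Fintype.card ι) (2 * m) N)
    (hr₀ : ∀ r : ℕ, r.Prime → r ∣ 2 * m → r = 2 ∨ r = r₀)
    (hz : ∃ z ∈ omegaGL ⇑Q, KillAt 2 z ∧ (r₀.Prime → r₀ ≠ 2 → r₀ ∣ m → KillAt r₀ z))
    [IsSimpleGroup (POmega F ⇑Q)] (hna : ∃ x y : POmega F ⇑Q, x * y ≠ y * x) : Spr (POmega F ⇑Q) := by
  have h5 : 5 ≤ Fintype.card ι := by have := hN.ten; omega
  obtain ⟨x, hx, ⟨i, hblk, hodd, hdv, hnum⟩, -⟩ := negTriv hQ hcard (j := m) (c := 0) rfl hN hmod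
  set s := x ^ i with hs
  have hsO : s ∈ omegaGL ⇑Q := Subgroup.pow_mem _ hx i
  have hirr : ∀ W : Submodule F (ι → F), (∀ w ∈ W, (s : Matrix ι ι F) *ᵥ w ∈ W) → W = ⊥ ∨ W = ⊤ := by
    intro W hW
    rcases hblk.finrank_cases hW with h | h
    · left
      exact Submodule.finrank_eq_zero.1 (by omega)
    · right
      apply Submodule.eq_top_of_finrank_eq
      have := Submodule.finrank_le W
      rw [Module.finrank_fintype_fun_eq_card] at this ⊢
      omega
  obtain ⟨z, hzO, hz2, hzr⟩ := hz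
  -- the order of `s` is prime to `2 m`
  have hcop : ∀ r : ℕ, r.Prime → r ∣ 2 * m → (orderOf s).Coprime r := by
    intro r hr hrm
    rw [Nat.coprime_comm, Nat.Prime.coprime_iff_not_dvd hr]
    intro hrs
    have h1 := num_facts Finite.one_lt_card hnum
    have hnq : ¬ r ∣ Nat.card F := by
      intro h
      have h2 := Nat.dvd_gcd hrs h
      rw [h1.2.2.1] at h2
      exact hr.one_lt.ne' (Nat.dvd_one.1 h2)
    have : Fact r.Prime := ⟨hr⟩
    have h2 : r ∣ Nat.card F ^ (r - 1) - 1 := by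
      have h3 : Nat.card F ^ (r - 1) ≡ 1 [MOD r] := by
        have h4 := Nat.ModEq.pow_totient (n := r) (x := Nat.card F)
          (Nat.Coprime.symm ((Nat.Prime.coprime_iff_not_dvd hr).2 hnq))
        rwa [Nat.totient_prime hr] at h4
      exact (Nat.modEq_iff_dvd' (Nat.one_le_pow _ _ Nat.card_pos)).1 h3.symm
    have hrle : r ≤ 2 * m := Nat.le_of_dvd (by omega) hrm
    have h3 := hnum.prim (r - 1) (by have := hr.two_le; omega) (by have := hr.two_le; omega)
    have h4 := Nat.dvd_gcd hrs h2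
    rw [h3] at h4
    exact hr.one_lt.ne' (Nat.dvd_one.1 h4)
  have hcomm : ∀ {r : ℕ}, r.Prime → r ∣ 2 * m → ∀ {E : Subalgebra F (Matrix ι ι F)}, IsFieldSubalgebra r E →
      s ∈ subalgebraNormalizer E → ∀ e ∈ E, (s : Matrix ι ι F) * e = e * s := by
    intro r hr hrm E hE hsE e he
    exact comm_of_coprime hE hsE (hcop r hr hrm) he
  have huniq : ∀ {r : ℕ}, r.Prime → r ∣ 2 * m → ∀ {E E' : Subalgebra F (Matrix ι ι F)}, IsFieldSubalgebra r E →
      IsFieldSubalgebra r E' → s ∈ subalgebraNormalizer E → s ∈ subalgebraNormalizer E' → E' = E := by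
    intro r hr hrm E E' hE hE' hsE hsE'
    exact field_unique hirr hE hE' (hcomm hr hrm hE hsE) (hcomm hr hrm hE' hsE')
  have hkill : ∀ {r : ℕ}, r.Prime → r ∣ 2 * m → ∀ {E : Subalgebra F (Matrix ι ι F)}, IsFieldSubalgebra r E →
      ¬ omegaGL ⇑Q ≤ subalgebraNormalizer E := by
    intro r hr hrm E hE hle
    have hzE := hle hzO
    by_cases h2 : r = 2
    · subst h2
      exact hz2.not_mem hr hE hzE
    · rcases hr₀ r hr hrm with h | h
      · exact h2 h
      · subst h
        have h3 : r ∣ m := ((Nat.coprime_primes hr Nat.prime_two).2 h2).dvd_of_dvd_mul_left hrm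
        exact (hzr hr h2 h3).not_mem hr hE hzE
  -- the overgroups
  have hcover : ∀ K : Subgroup (GL ι F), K ≤ omegaGL ⇑Q → K ≠ omegaGL ⇑Q → s ∈ K →
      ∃ (r : ℕ) (E : Subalgebra F (Matrix ι ι F)), r.Prime ∧ r ∣ 2 * m ∧ IsFieldSubalgebra r E ∧
        K ≤ subalgebraNormalizer E := by
    intro K hK hne hsK
    rcases og _ _ (isND hQ) K hK hne s hsK hnum with h | ⟨r, E, hr, hrd, hE, hN⟩
    · exfalso
      obtain ⟨W, h0, h1, hW⟩ := h
      rcases hirr W fun w hw => (hW hsK w).1 hw with h | h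
      · exact h0 h
      · exact h1 h
    · exact ⟨r, E, hr, hrd.trans ((Nat.gcd_dvd_right _ _)), hE, hN⟩
  by_cases hA : ∃ (r : ℕ) (E : Subalgebra F (Matrix ι ι F)), r.Prime ∧ r ∣ 2 * m ∧ IsFieldSubalgebra r E ∧
      s ∈ subalgebraNormalizer E
  · obtain ⟨r, E, hr, hrd, hE, hsE⟩ := hA
    by_cases hB : ∃ (r' : ℕ) (E' : Subalgebra F (Matrix ι ι F)), r'.Prime ∧ r' ∣ 2 * m ∧ IsFieldSubalgebra r' E' ∧
      s ∈ subalgebraNormalizer E' ∧ r' ≠ r
    · obtain ⟨r', E', hr', hrd', hE', hsE', hrr⟩ := hB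
      refine spr_gl hQ h5 hna hsO (neg_one_mem_normalizer E) (neg_one_mem_normalizer E') (hkill hr hrd hE)
        (hkill hr' hrd' hE') ?_ ?_
      · intro y _ hy g hg
        have h1 : s ∈ subalgebraNormalizer (E.map (cj y)) := by
          rw [mem_normalizer_map]
          exact (hy s hsO).1 hsE'
        have h2 := huniq hr hrd hE (cj_field y hE) hsE h1
        rw [hy g hg, ← mem_normalizer_map, h2]
      · intro K hK hne hsK
        obtain ⟨r'', E'', hr'', hrd'', hE'', hKE⟩ := hcover K hK hne hsK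
        have h3 : r'' = r ∨ r'' = r' := by
          have a1 := hr₀ r hr hrd
          have a2 := hr₀ r' hr' hrd'
          have a3 := hr₀ r'' hr'' hrd''
          omega
        rcases h3 with rfl | rfl
        · left
          rw [← huniq hr hrd hE hE'' hsE (hKE hsK)]
          exact hKE
        · right
          rw [← huniq hr' hrd' hE' hE'' hsE' (hKE hsK)]
          exact hKE
    · refine spr_gl hQ h5 hna hsO (neg_one_mem_normalizer E) (neg_one_mem_normalizer E) (hkill hr hrd hE)
        (hkill hr hrd hE) (fun _ _ _ _ _ => Iff.rfl) ?_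
      intro K hK hne hsK
      left
      obtain ⟨r'', E'', hr'', hrd'', hE'', hKE⟩ := hcover K hK hne hsK
      have h3 : r'' = r := by
        by_contra h
        exact hB ⟨r'', E'', hr'', hrd'', hE'', hKE hsK, h⟩
      subst h3
      rw [← huniq hr hrd hE hE'' hsE (hKE hsK)]
      exact hKE
  · -- no overgroup at all
    obtain ⟨u, hu0, -⟩ := exists_sing (Q := Q) h5
    have hne0 : Submodule.span F {u} ≠ ⊥ := by
      rw [Ne, Submodule.span_singleton_eq_bot]
      exact hu0
    have hne1 : Submodule.span F {u} ≠ ⊤ := by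
      intro h
      have h1 := finrank_span_singleton (K := F) hu0
      rw [h, finrank_top, Module.finrank_fintype_fun_eq_card] at h1
      omega
    refine spr_gl hQ h5 hna hsO (neg_one_mem_stab (Submodule.span F {u})) (neg_one_mem_stab (Submodule.span F {u}))
      (not_le_stab hQ h5 hne0 hne1) (not_le_stab hQ h5 hne0 hne1) (fun _ _ _ _ _ => Iff.rfl) ?_
    intro K hK hne hsK
    exfalso
    obtain ⟨r'', E'', hr'', hrd'', hE'', hKE⟩ := hcover K hK hne hsK
    exact hA ⟨r'', E'', hr'', hrd'', hE'', hKE hsK⟩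

end row

end Cfsg.Agent.H688.Spr
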