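import Cfsg.Agent.H688.Cov.Blocks

/-!
# S3938: a uniserial isometry of the space of plus type of dimension `4 h` (helper688)

`K` the field with `q ^ (2 h)` elements, `σ` the involution of `K`, `hermQ σ (x, y) = tr (x σ(y))` on `K × K`,
`Tm c ε (x, y) = (c (x + ε y), c y)` with `c σ(c) = 1`, `ε = δ - σ(δ) ≠ 0` and `F[c] = K`: an isometry whose only proper
invariant subspace is `K × 0`.
-/

set_option autoImplicit false
set_option linter.unusedSectionVars false

namespace Cfsg.Agent.H688.Spr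

open Module Cfsg.Agent.H688.Cov
open Cfsg.Agent.LieClassical.OrthCore (Nondeg)
open Cfsg.Agent.H377 (HasSign hasSign_mul)

universe u w

section

variable {F : Type u} [Field F] [Finite F] {K : Type w} [Field K] [Finite K] [Algebra F K]

/-- the form `tr (x σ(y))` -/
noncomputable def hermQ (σ : K ≃ₐ[F] K) : QuadraticForm F (K × K) :=
  (trQ F K).comp ((LinearMap.id : K →ₗ[F] K).prodMap σ.toLinearMap)

theorem hermQ_apply (σ : K ≃ₐ[F] K) (v : K × K) : hermQ σ v = Algebra.trace F K (v.1 * σ v.2) := rfl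

theorem hermQ_polar (σ : K ≃ₐ[F] K) (v w : K × K) : QuadraticMap.polar (hermQ σ) v w =
    Algebra.trace F K (v.1 * σ w.2) + Algebra.trace F K (w.1 * σ v.2) := by
  rw [QuadraticMap.polar, hermQ_apply, hermQ_apply, hermQ_apply, Prod.fst_add, Prod.snd_add, map_add, add_mul, mul_add,
    mul_add, map_add, map_add, map_add]
  ring

theorem hermQ_nondeg (σ : K ≃ₐ[F] K) : Nondeg (hermQ σ) := by
  intro v hv
  have h1 : ((LinearMap.id : K →ₗ[F] K).prodMap σ.toLinearMap) v = 0 := by
    apply trQ_nondeg (F := F)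
    intro w
    have h2 := hv (w.1, σ.symm w.2)
    have h3 : ((LinearMap.id : K →ₗ[F] K).prodMap σ.toLinearMap) (w.1, σ.symm w.2) = w :=
      Prod.ext rfl (σ.apply_symm_apply w.2)
    rw [← h3]
    rw [QuadraticMap.polar] at h2 ⊢
    rw [← map_add]
    exact h2
  have h5 := congrArg Prod.fst h1
  refine Prod.ext h5 ?_
  have h4 : σ v.2 = 0 := by
    have h6 := congrArg Prod.snd h1
    exact h6
  exact (map_eq_zero σ).1 h4

theorem hermQ_sign (σ : K ≃ₐ[F] K) : HasSign (⇑(hermQ σ)) (finrank F K) 1 := by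
  have h := (hasSign_mul (F := K)).res (F := F)
  rw [mul_one] at h
  refine h.congr ((Equiv.refl K).prodCongr σ.symm.toEquiv) fun v => ?_
  rw [hermQ_apply]
  change Algebra.trace F K (v.1 * σ (σ.symm v.2)) = _
  rw [σ.apply_symm_apply]

/-- the isometry -/
noncomputable def Tm (F : Type u) [Field F] [Algebra F K] (c ε : K) : Module.End F (K × K) :=
  ((Algebra.lmul F K c).comp ((LinearMap.fst F K K) + (Algebra.lmul F K ε).comp (LinearMap.snd F K K))).prod
    ((Algebra.lmul F K c).comp (LinearMap.snd F K K))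

theorem Tm_apply (c ε : K) (v : K × K) : Tm F c ε v = (c * (v.1 + ε * v.2), c * v.2) := rfl

theorem Tm_mul (c ε c' ε' : K) : Tm F c ε * Tm F c' ε' = Tm F (c * c') (ε + ε') := by
  apply LinearMap.ext
  intro v
  rw [Module.End.mul_apply, Tm_apply, Tm_apply, Tm_apply]
  refine Prod.ext ?_ ?_
  · change c * (c' * (v.1 + ε' * v.2) + ε * (c' * v.2)) = c * c' * (v.1 + (ε + ε') * v.2)
    ring
  · change c * (c' * v.2) = c * c' * v.2
    ring

theorem Tm_one : Tm F (1 : K) 0 = 1 := by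
  apply LinearMap.ext
  intro v
  rw [Tm_apply]
  refine Prod.ext ?_ ?_
  · change 1 * (v.1 + 0 * v.2) = v.1
    ring
  · change 1 * v.2 = v.2
    ring

theorem Tm_pow (c ε : K) (n : ℕ) : Tm F c ε ^ n = Tm F (c ^ n) (n * ε) := by
  induction n with
  | zero => rw [pow_zero, pow_zero, Nat.cast_zero, zero_mul, Tm_one]
  | succ n ih =>
    rw [pow_succ, ih, Tm_mul, pow_succ, Nat.cast_succ]
    congr 1
    ring

theorem Tm_isom {σ : K ≃ₐ[F] K} (hσ : ∀ x, σ (σ x) = x) {c ε δ : K} (hc : c * σ c = 1) (hε : ε = δ - σ δ)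
    (v : K × K) : hermQ σ (Tm F c ε v) = hermQ σ v := by
  have htr : ∀ x : K, Algebra.trace F K (σ x) = Algebra.trace F K x := fun x => Algebra.trace_eq_of_algEquiv σ x
  rw [hermQ_apply, hermQ_apply, Tm_apply]
  change Algebra.trace F K (c * (v.1 + ε * v.2) * σ (c * v.2)) = _
  have h1 : c * (v.1 + ε * v.2) * σ (c * v.2) = v.1 * σ v.2 + (δ * (v.2 * σ v.2) - σ (δ * (v.2 * σ v.2))) := by
    rw [map_mul, map_mul, map_mul, hσ, hε]
    have h2 : c * (v.1 + (δ - σ δ) * v.2) * (σ c * σ v.2) = (c * σ c) * ((v.1 + (δ - σ δ) * v.2) * σ v.2) := by ring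
    rw [h2, hc]
    ring
  rw [h1, map_add, map_sub, htr, sub_self, add_zero]

/-- the numerical data -/
structure HD (h : ℕ) (σ : K ≃ₐ[F] K) (c ε : K) : Prop where
  pos : 1 ≤ h
  invol : ∀ x, σ (σ x) = x
  frob : ∀ x, σ x = x ^ (Nat.card F ^ h)
  dim : finrank F K = 2 * h
  unit : c * σ c = 1
  ord : orderOf c = Nat.card F ^ h + 1
  eps : ∃ δ, ε = δ - σ δ
  eps0 : ε ≠ 0
  beta : ∃ β : K, β ≠ 0 ∧ c = β * (σ β)⁻¹
  gen : ∀ k : K, k ∈ Algebra.adjoin F {c}

/-- existence of the data -/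
theorem exists_HD (F : Type u) [Field F] [Finite F] {h : ℕ} (hh : 1 ≤ h) :
    ∃ (K : Type) (_ : Field K) (_ : Finite K) (_ : Algebra F K) (σ : K ≃ₐ[F] K) (c ε : K), HD h σ c ε := by
  have := Fintype.ofFinite F
  obtain ⟨p, _⟩ := CharP.exists F
  have : Fact p.Prime := ⟨CharP.char_is_prime F p⟩
  have : NeZero (2 * h) := ⟨by omega⟩
  have hq : 1 < Nat.card F := Finite.one_lt_card
  let K := FiniteField.Extension F p (2 * h)
  have hfin : Finite K := inferInstance
  have hdim : finrank F K = 2 * h := FiniteField.finrank_extension (k := F) (p := p) (n := 2 * h)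
  have hcardK : Nat.card K = Nat.card F ^ (2 * h) := FiniteField.natCard_extension (k := F) (p := p) (n := 2 * h)
  let σ : K ≃ₐ[F] K := (FiniteField.frobeniusAlgEquivOfAlgebraic F K) ^ h
  have hσ : ∀ x : K, σ x = x ^ (Nat.card F ^ h) := by
    intro x
    have h1 : ∀ n : ℕ, ((FiniteField.frobeniusAlgEquivOfAlgebraic F K) ^ n) x = x ^ (Nat.card F ^ n) := by
      intro n
      induction n with
      | zero => rw [pow_zero, pow_zero, pow_one]; rfl
      | succ n ih =>
        rw [pow_succ', AlgEquiv.mul_apply, ih, FiniteField.coe_frobeniusAlgEquivOfAlgebraic, ← Nat.card_eq_fintype_card]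
        change (x ^ Nat.card F ^ n) ^ Nat.card F = _
        rw [← pow_mul, pow_succ]
    exact h1 h
  have hpowK : ∀ x : K, x ^ (Nat.card F ^ (2 * h)) = x := by
    intro x
    have := Fintype.ofFinite K
    rw [← hcardK, Nat.card_eq_fintype_card]
    exact FiniteField.pow_card x
  have hinv : ∀ x, σ (σ x) = x := by
    intro x
    rw [hσ, hσ, ← pow_mul, ← pow_add, ← two_mul, hpowK]
  obtain ⟨b, hb⟩ := IsCyclic.exists_ofOrder_eq_natCard (α := Kˣ)
  have hcardu : Nat.card Kˣ = Nat.card F ^ (2 * h) - 1 := by rw [Nat.card_units, hcardK]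
  have hfac : Nat.card F ^ (2 * h) - 1 = (Nat.card F ^ h - 1) * (Nat.card F ^ h + 1) := by
    have h3 := Nat.sq_sub_sq (Nat.card F ^ h) 1
    rw [one_pow, ← pow_mul, mul_comm h 2] at h3
    rw [h3, mul_comm]
  have hqh : 1 < Nat.card F ^ h := Nat.one_lt_pow (by omega) hq
  -- the element `c`
  let cu : Kˣ := (b ^ (Nat.card F ^ h - 1))⁻¹
  have hcu : orderOf cu = Nat.card F ^ h + 1 := by
    rw [orderOf_inv, orderOf_pow, hb, hcardu, hfac, Nat.gcd_eq_right (Dvd.intro _ rfl)]
    exact Nat.mul_div_cancel_left _ (by omega)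
  have hcb : (cu : K) = (b : K) * (σ (b : K))⁻¹ := by
    rw [hσ]
    have h1 : (b : K) ^ (Nat.card F ^ h) = (b : K) ^ (Nat.card F ^ h - 1) * b := by
      rw [← pow_succ, Nat.sub_add_cancel hqh.le]
    rw [h1, mul_inv, mul_comm ((b : K) ^ (Nat.card F ^ h - 1))⁻¹, ← mul_assoc, mul_inv_cancel₀ (Units.ne_zero b),
      one_mul]
    simp [cu]
  have hord : orderOf (cu : K) = Nat.card F ^ h + 1 := by rw [orderOf_units, hcu]
  have hunit : (cu : K) * σ (cu : K) = 1 := by
    rw [hcb, map_mul, map_inv₀, hinv]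
    have h1 : (b : K) ≠ 0 := Units.ne_zero b
    have h2 : σ (b : K) ≠ 0 := (map_ne_zero σ).2 h1
    rw [mul_assoc, ← mul_assoc (σ (b : K))⁻¹, inv_mul_cancel₀ h2, one_mul, mul_inv_cancel₀ h1]
  -- `δ`
  obtain ⟨δ, hδ⟩ : ∃ δ : K, σ δ ≠ δ := by
    refine ⟨b, fun h1 => ?_⟩
    have h2 : (cu : K) = 1 := by rw [hcb, h1, mul_inv_cancel₀ (Units.ne_zero b)]
    rw [h2, orderOf_one] at hord
    omega
  refine ⟨K, inferInstance, hfin, inferInstance, σ, cu, δ - σ δ, hh, hinv, hσ, hdim, hunit, hord, ⟨δ, rfl⟩,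
    sub_ne_zero.2 (Ne.symm hδ), ⟨b, Units.ne_zero b, hcb⟩, ?_⟩
  -- generation
  have hfd : FiniteDimensional F K := Module.Finite.of_finite
  have hint : IsIntegral F (cu : K) := Algebra.IsIntegral.isIntegral _
  set L := IntermediateField.adjoin F {(cu : K)} with hL
  have hdL : finrank F L * finrank L K = 2 * h := by rw [Module.finrank_mul_finrank, hdim]
  have hcardL : Nat.card L = Nat.card F ^ finrank F L := Module.natCard_eq_pow_finrank (K := F)
  have hcL : (cu : K) ^ (Nat.card F ^ finrank F L - 1) = 1 := by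
    have hmem : (cu : K) ∈ L := IntermediateField.mem_adjoin_simple_self F (cu : K)
    have := Fintype.ofFinite L
    have h1 := FiniteField.pow_card_sub_one_eq_one (⟨cu, hmem⟩ : L) (by
      intro h0
      exact Units.ne_zero cu (congrArg Subtype.val h0))
    rw [← Nat.card_eq_fintype_card, hcardL] at h1
    exact congrArg Subtype.val h1
  have hdvd : Nat.card F ^ h + 1 ∣ Nat.card F ^ finrank F L - 1 := by
    rw [← hord]
    exact orderOf_dvd_of_pow_eq_one hcL
  have hL0 : 0 < finrank F L := Module.finrank_pos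
  have hLtop : finrank F L = finrank F K := by
    rw [hdim]
    by_contra hne
    have h1 : 2 ≤ finrank L K := by
      have h2 : finrank L K ≠ 0 := by
        intro h0
        rw [h0, mul_zero] at hdL
        omega
      have h3 : finrank L K ≠ 1 := by
        intro h0
        rw [h0, mul_one] at hdL
        exact hne hdL
      omega
    have h2 : finrank F L ≤ h := by
      have h3 : finrank F L * 2 ≤ finrank F L * finrank L K := Nat.mul_le_mul_left _ h1
      omega
    have h3 : Nat.card F ^ finrank F L ≤ Nat.card F ^ h := Nat.pow_le_pow_right (by omega) h2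
    have h4 : 1 < Nat.card F ^ finrank F L := Nat.one_lt_pow (by omega) hq
    have h5 := Nat.le_of_dvd (by omega) hdvd
    omega
  have htop : L = ⊤ := by
    apply IntermediateField.eq_of_le_of_finrank_eq le_top
    rw [hLtop, IntermediateField.finrank_top']
  intro k
  have h1 : k ∈ L := by rw [htop]; trivial
  have h2 := IntermediateField.adjoin_simple_toSubalgebra_of_isAlgebraic (F := F) (α := (cu : K)) hint.isAlgebraic
  rw [← h2]
  exact h1

variable {h : ℕ} {σ : K ≃ₐ[F] K} {c ε : K}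

theorem HD.isom (hd : HD h σ c ε) (v : K × K) : hermQ σ (Tm F c ε v) = hermQ σ v := by
  obtain ⟨δ, hδ⟩ := hd.eps
  exact Tm_isom hd.invol hd.unit hδ v

theorem HD.c0 (hd : HD h σ c ε) : c ≠ 0 := by
  rintro rfl
  have := hd.unit
  rw [zero_mul] at this
  exact zero_ne_one this

/-- exponents giving the semisimple and the unipotent part -/
theorem HD.parts (hd : HD h σ c ε) : ∃ (a b : ℕ), Tm F c ε ^ a = Tm F c 0 ∧ Tm F c ε ^ b = Tm F 1 ε := by
  obtain ⟨p, _⟩ := CharP.exists K
  have hp : p.Prime := (CharP.char_is_prime_or_zero K p).resolve_right (CharP.char_ne_zero_of_finite K p)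
  have hpF : CharP F p := (RingHom.charP_iff (algebraMap F K) (algebraMap F K).injective p).2 inferInstance
  have hcop : (orderOf c).Coprime p := by
    rw [hd.ord, Nat.coprime_comm, Nat.Prime.coprime_iff_not_dvd hp]
    intro h1
    have h2 : p ∣ Nat.card F := by
      have := Fintype.ofFinite F
      rw [← CharP.cast_eq_zero_iff F p, Nat.card_eq_fintype_card]
      exact Nat.cast_card_eq_zero F
    have h3 : p ∣ Nat.card F ^ h := dvd_pow h2 (by have := hd.pos; omega)
    have h4 := (Nat.dvd_add_right h3).1 h1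
    exact hp.one_lt.ne' (Nat.dvd_one.1 h4)
  obtain ⟨a, ha1, ha2⟩ := Nat.chineseRemainder hcop 1 0
  obtain ⟨b, hb1, hb2⟩ := Nat.chineseRemainder hcop 0 1
  refine ⟨a, b, ?_, ?_⟩
  · have h1 : c ^ a = c := by
      have := pow_eq_pow_of_modEq ha1 (pow_orderOf_eq_one c)
      rwa [pow_one] at this
    have h2 : (a : K) = 0 := by
      rw [CharP.cast_eq_zero_iff K p]
      exact (Nat.modEq_zero_iff_dvd).1 ha2
    rw [Tm_pow, h1, h2, zero_mul]
  · have h1 : c ^ b = 1 := by
      obtain ⟨k, rfl⟩ := (Nat.modEq_zero_iff_dvd).1 hb1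
      rw [pow_mul, pow_orderOf_eq_one, one_pow]
    have h2 : (b : K) = 1 := by
      have h3 := (CharP.cast_eq_iff_mod_eq K p (a := b) (b := 1)).2 hb2
      rwa [Nat.cast_one] at h3
    rw [Tm_pow, h1, h2, one_mul]

/-- closure under scalars -/
theorem HD.scalar (hd : HD h σ c ε) {W : Submodule F (K × K)} (hW : ∀ w ∈ W, Tm F c 0 w ∈ W) (k : K) :
    ∀ w ∈ W, (k * w.1, k * w.2) ∈ W := by
  have hc : ∀ w ∈ W, (c * w.1, c * w.2) ∈ W := by
    intro w hw
    have h1 := hW w hw
    rwa [Tm_apply, zero_mul, add_zero] at h1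
  refine Algebra.adjoin_induction (R := F) (s := {c}) (p := fun k _ => ∀ w ∈ W, (k * w.1, k * w.2) ∈ W) ?_ ?_ ?_ ?_
    (hd.gen k)
  · intro x hx w hw
    rw [Set.mem_singleton_iff] at hx
    subst hx
    exact hc w hw
  · intro r w hw
    have h1 := W.smul_mem r hw
    have h2 : ((algebraMap F K) r * w.1, (algebraMap F K) r * w.2) = r • w := by
      rw [← Algebra.smul_def, ← Algebra.smul_def]
      rfl
    rw [h2]
    exact h1
  · intro x y _ _ hx hy w hw
    have h1 := W.add_mem (hx w hw) (hy w hw)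
    rw [add_mul, add_mul]
    exact h1
  · intro x y _ _ hx hy w hw
    have h1 := hx _ (hy w hw)
    rw [mul_assoc, mul_assoc]
    exact h1

/-- **the invariant subspaces** -/
theorem HD.invs (hd : HD h σ c ε) {W : Submodule F (K × K)} (hW : ∀ w ∈ W, Tm F c ε w ∈ W) :
    W = ⊥ ∨ W = (⊤ : Submodule F K).prod ⊥ ∨ W = ⊤ := by
  obtain ⟨a, b, ha, hb⟩ := hd.parts
  have hpow : ∀ n : ℕ, ∀ w ∈ W, (Tm F c ε ^ n) w ∈ W := by
    intro n
    induction n with
    | zero => exact fun w hw => hw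
    | succ n ih => intro w hw; rw [pow_succ, Module.End.mul_apply]; exact ih _ (hW w hw)
  have hWc : ∀ w ∈ W, Tm F c 0 w ∈ W := by
    intro w hw
    rw [← ha]
    exact hpow a w hw
  have hWu : ∀ w ∈ W, (w.1 + ε * w.2, w.2) ∈ W := by
    intro w hw
    have h1 := hpow b w hw
    rwa [hb, Tm_apply, one_mul, one_mul] at h1
  have hsc := hd.scalar hWc
  by_cases h1 : ∀ w ∈ W, w.2 = 0
  · by_cases h2 : ∀ w ∈ W, w.1 = 0
    · left
      rw [Submodule.eq_bot_iff]
      exact fun w hw => Prod.ext (h2 w hw) (h1 w hw)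
    · right; left
      push Not at h2
      obtain ⟨w, hw, hw0⟩ := h2
      ext v
      rw [Submodule.mem_prod]
      constructor
      · exact fun hv => ⟨trivial, h1 v hv⟩
      · rintro ⟨-, hv⟩
        have h3 := hsc (v.1 * w.1⁻¹) w hw
        rw [h1 w hw, mul_zero, mul_assoc, inv_mul_cancel₀ hw0, mul_one] at h3
        have h4 : v = (v.1, 0) := Prod.ext rfl ((Submodule.mem_bot F).1 hv)
        rw [h4]
        exact h3
  · right; right
    push Not at h1
    obtain ⟨w, hw, hw0⟩ := h1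
    have h2 : ∀ x : K, (x, (0 : K)) ∈ W := by
      intro x
      have h3 := W.sub_mem (hWu w hw) hw
      have h4 : (w.1 + ε * w.2, w.2) - w = (ε * w.2, 0) := by
        refine Prod.ext ?_ ?_
        · change w.1 + ε * w.2 - w.1 = ε * w.2
          ring
        · change w.2 - w.2 = 0
          ring
      rw [h4] at h3
      have h5 := hsc (x * (ε * w.2)⁻¹) _ h3
      have h6 : x * (ε * w.2)⁻¹ * (ε * w.2) = x := by
        rw [mul_assoc, inv_mul_cancel₀ (mul_ne_zero hd.eps0 hw0), mul_one]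
      change (x * (ε * w.2)⁻¹ * (ε * w.2), x * (ε * w.2)⁻¹ * 0) ∈ W at h5
      rwa [h6, mul_zero] at h5
    rw [eq_top_iff]
    intro v _
    have h3 := hsc (v.2 * w.2⁻¹) w hw
    have h4 : v.2 * w.2⁻¹ * w.2 = v.2 := by rw [mul_assoc, inv_mul_cancel₀ hw0, mul_one]
    rw [h4] at h3
    have h5 := W.add_mem h3 (h2 (v.1 - v.2 * w.2⁻¹ * w.1))
    have h6 : (v.2 * w.2⁻¹ * w.1, v.2) + (v.1 - v.2 * w.2⁻¹ * w.1, (0 : K)) = v := by
      refine Prod.ext ?_ ?_
      · change v.2 * w.2⁻¹ * w.1 + (v.1 - v.2 * w.2⁻¹ * w.1) = v.1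
        ring
      · change v.2 + 0 = v.2
        ring
    rwa [h6] at h5

/-- the semisimple part is a commutator of isometries -/
theorem HD.comm (hd : HD h σ c ε) : ∃ A B A' B' : Module.End F (K × K), (∀ v, hermQ σ (A v) = hermQ σ v) ∧
    (∀ v, hermQ σ (B v) = hermQ σ v) ∧ A * A' = 1 ∧ B * B' = 1 ∧ A * B * A' * B' = Tm F c 0 := by
  obtain ⟨β, hβ, hcβ⟩ := hd.beta
  have hσβ : σ β ≠ 0 := (map_ne_zero σ).2 hβ
  let A : Module.End F (K × K) := (Algebra.lmul F K β).prodMap (Algebra.lmul F K (σ β)⁻¹)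
  let A' : Module.End F (K × K) := (Algebra.lmul F K β⁻¹).prodMap (Algebra.lmul F K (σ β))
  let B : Module.End F (K × K) := σ.toLinearMap.prodMap σ.toLinearMap
  have hA : ∀ v, A v = (β * v.1, (σ β)⁻¹ * v.2) := fun v => rfl
  have hA' : ∀ v, A' v = (β⁻¹ * v.1, σ β * v.2) := fun v => rfl
  have hB : ∀ v, B v = (σ v.1, σ v.2) := fun v => rfl
  refine ⟨A, B, A', B, ?_, ?_, ?_, ?_, ?_⟩
  · intro v
    rw [hermQ_apply, hermQ_apply, hA]
    congr 1
    change β * v.1 * σ ((σ β)⁻¹ * v.2) = v.1 * σ v.2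
    rw [map_mul, map_inv₀, hd.invol]
    field_simp
  · intro v
    rw [hermQ_apply, hermQ_apply, hB]
    change Algebra.trace F K (σ v.1 * σ (σ v.2)) = _
    rw [← map_mul]
    exact Algebra.trace_eq_of_algEquiv σ _
  · apply LinearMap.ext
    intro v
    rw [Module.End.mul_apply, hA, hA']
    refine Prod.ext ?_ ?_
    · change β * (β⁻¹ * v.1) = v.1
      rw [← mul_assoc, mul_inv_cancel₀ hβ, one_mul]
    · change (σ β)⁻¹ * (σ β * v.2) = v.2
      rw [← mul_assoc, inv_mul_cancel₀ hσβ, one_mul]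
  · apply LinearMap.ext
    intro v
    rw [Module.End.mul_apply, hB, hB]
    exact Prod.ext (hd.invol _) (hd.invol _)
  · apply LinearMap.ext
    intro v
    rw [Module.End.mul_apply, Module.End.mul_apply, Module.End.mul_apply, hB, hA', hB, hA, Tm_apply]
    refine Prod.ext ?_ ?_
    · change β * σ (β⁻¹ * σ v.1) = c * (v.1 + 0 * v.2)
      rw [map_mul, map_inv₀, hd.invol, hcβ]
      ring
    · change (σ β)⁻¹ * σ (σ β * σ v.2) = c * v.2
      rw [map_mul, hd.invol, hd.invol, hcβ]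
      ring

end

end Cfsg.Agent.H688.Spr
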