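import Cfsg.Agent.H688.Spr.RowT
import Cfsg.Agent.H688.Spr.Fields
import Cfsg.Agent.H688.Cov.OMinusFinal

/-!
# S3938, the row `PΩ⁻_{2m}(q)`, `m ≥ 5` (helper688)

All cases except `q = 2`, `m = 5, 6, 9`.
-/

set_option autoImplicit false
set_option linter.unusedSectionVars false

namespace Cfsg.Agent.H688.Spr

open Cfsg Cfsg.Geo Module
open Cfsg.Agent.H278.Cov Cfsg.Agent.H383.Cov Cfsg.Agent.H688.Cov
open Cfsg.Agent.H424.Spr (Spr)
open Cfsg.Agent.LieClassical.OrthCore (Nondeg)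
open Cfsg.Agent.LieClassical.OrthForms (minusForm coe_minusForm nondeg_minusForm)
open Cfsg.Agent.H377 (exists_minus)
open Cfsg.Agent.H689 (Ppd exists_ppd)
open Cfsg.Agent.H906.Cov (exists_num)
open scoped MatrixGroups Matrix

section rows

variable {ι : Type} [Fintype ι] [DecidableEq ι] {F : Type} [Field F] [Finite F] {Q : QuadraticForm F (ι → F)}

theorem exists_kill (hQ : Nondeg Q) {m : ℕ} (hcard : Fintype.card ι = 2 * m) (hmod : Mod Q m (-1)) (hm : 5 ≤ m)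
    (hm6 : m ≠ 6) (hm10 : m ≠ 10) :
    ∃ z ∈ omegaGL ⇑Q, KillAt 2 z ∧ ∀ r : ℕ, r.Prime → r ≠ 2 → r ∣ m → KillAt r z := by
  have hq1 : 2 ≤ Nat.card F := Finite.one_lt_card
  obtain ⟨a, b, hab, ha, ha3, hb2, hbm, hr, hb3⟩ := exists_ab hm hm6
  obtain ⟨l, hl⟩ := exists_ppd (q := Nat.card F) (k := a) hq1 ha3 (by
    rintro ⟨-, rfl⟩
    exact absurd ha (by decide))
  obtain ⟨l', hl'⟩ := exists_ppd (q := Nat.card F) (k := 2 * b) hq1 (by omega) (by
    rintro ⟨h1, h2⟩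
    exact hm10 (hb3 (by omega)))
  have hl2 := hl.two_lt ha3
  have hlo := hl.le_odd ha3 ha
  obtain ⟨z, hz, hk2, hkr, hz3⟩ := posNeg hQ (by omega) hab ha hl (by omega) hb2 hl' hmod
  refine ⟨z, hz, hk2, fun r hrp h2 h3 => ?_⟩
  refine hkr r hrp ?_ ?_
  · have := hr r hrp h2 h3
    omega
  · intro h4
    have h5 : r ∣ b := ((Nat.coprime_primes hrp Nat.prime_two).2 h2).dvd_of_dvd_mul_left h4
    have h6 := Nat.dvd_gcd h5 h3
    rw [hbm] at h6
    exact hrp.one_lt.ne' (Nat.dvd_one.1 h6)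

/-- the row with an irreducible element, for `m = 5, 7, 8, 12, 13` -/
theorem row_irr [Nonempty ι] (hQ : Nondeg Q) (og : OgO ι F) {m : ℕ} (hcard : Fintype.card ι = 2 * m)
    (hmod : Mod Q m (-1)) (hm : m = 5 ∨ m = 7 ∨ m = 8 ∨ m = 12 ∨ m = 13) (hq2 : Nat.card F = 2 → m ≠ 5)
    [IsSimpleGroup (POmega F ⇑Q)] (hna : ∃ x y : POmega F ⇑Q, x * y ≠ y * x) : Spr (POmega F ⇑Q) := by
  obtain ⟨N, hN⟩ := exists_num (n := 2 * m) (k := 2 * m) (isPrimePow_card F) (by omega) le_rfl (by omega)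
    (fun h => by have := hq2 h; omega) (by omega)
  replace hN := num_card hN hcard
  obtain ⟨z, hz, hk2, hkr⟩ := exists_kill hQ hcard hmod (by omega) (by omega) (by omega)
  have key : ∀ r₀ : ℕ, (∀ r : ℕ, r.Prime → r ∣ 2 * m → r = 2 ∨ r = r₀) → Spr (POmega F ⇑Q) := by
    intro r₀ hr₀
    exact row_field hQ og hcard hmod hN hr₀ ⟨z, hz, hk2, fun h1 h2 h3 => hkr r₀ h1 h2 h3⟩ hna
  rcases hm with rfl | rfl | rfl | rfl | rfl
  · refine key 5 fun r hr hd => ?_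
    rcases (Nat.Prime.dvd_mul hr).1 hd with h | h
    · exact Or.inl ((Nat.prime_dvd_prime_iff_eq hr Nat.prime_two).1 h)
    · exact Or.inr ((Nat.prime_dvd_prime_iff_eq hr (by norm_num)).1 h)
  · refine key 7 fun r hr hd => ?_
    rcases (Nat.Prime.dvd_mul hr).1 hd with h | h
    · exact Or.inl ((Nat.prime_dvd_prime_iff_eq hr Nat.prime_two).1 h)
    · exact Or.inr ((Nat.prime_dvd_prime_iff_eq hr (by norm_num)).1 h)
  · refine key 2 fun r hr hd => ?_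
    have h4 : r ∣ 2 ^ 4 := hd
    exact Or.inl ((Nat.prime_dvd_prime_iff_eq hr Nat.prime_two).1 (hr.dvd_of_dvd_pow h4))
  · refine key 3 fun r hr hd => ?_
    have h4 : r ∣ 2 ^ 3 * 3 := hd
    rcases (Nat.Prime.dvd_mul hr).1 h4 with h | h
    · exact Or.inl ((Nat.prime_dvd_prime_iff_eq hr Nat.prime_two).1 (hr.dvd_of_dvd_pow h))
    · exact Or.inr ((Nat.prime_dvd_prime_iff_eq hr (by norm_num)).1 h)
  · refine key 13 fun r hr hd => ?_
    rcases (Nat.Prime.dvd_mul hr).1 hd with h | h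
    · exact Or.inl ((Nat.prime_dvd_prime_iff_eq hr Nat.prime_two).1 h)
    · exact Or.inr ((Nat.prime_dvd_prime_iff_eq hr (by norm_num)).1 h)

/-- **all rows** -/
theorem row_all [Nonempty ι] (hQ : Nondeg Q) (og : OgO ι F) {m : ℕ} (hcard : Fintype.card ι = 2 * m)
    (hmod : Mod Q m (-1)) (hm : 5 ≤ m) (hq2 : Nat.card F = 2 → m ≠ 5 ∧ m ≠ 6 ∧ m ≠ 9)
    [IsSimpleGroup (POmega F ⇑Q)] (hna : ∃ x y : POmega F ⇑Q, x * y ≠ y * x) : Spr (POmega F ⇑Q) := by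
  by_cases hs : m = 5 ∨ m = 7 ∨ (Nat.card F = 2 ∧ (m = 8 ∨ m = 12 ∨ m = 13))
  · exact row_irr hQ og hcard hmod (by omega) (fun h => (hq2 h).1) hna
  rcases Nat.even_or_odd m with he | ho
  · obtain ⟨k, hk⟩ := he
    obtain ⟨N, hN⟩ := exists_num (n := 2 * m) (k := 2 * (m - 2)) (isPrimePow_card F) (by omega) (by omega) (by omega)
      (fun h => by have := hq2 h; omega) (by omega)
    replace hN := num_card hN hcard
    exact row_T hQ og hcard (h := 1) (j := m - 2) (by omega) le_rfl (by omega) ⟨k - 1, by omega⟩ hN hmod hna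
  · obtain ⟨k, hk⟩ := ho
    obtain ⟨N, hN⟩ := exists_num (n := 2 * m) (k := 2 * (m - 4)) (isPrimePow_card F) (by omega) (by omega) (by omega)
      (fun h => by have := hq2 h; omega) (by omega)
    replace hN := num_card hN hcard
    exact row_T hQ og hcard (h := 2) (j := m - 4) (by omega) (by omega) le_rfl ⟨k - 1 , by omega⟩ hN hmod hna

end rows

/-- **`PΩ⁻_{2m}(q)`, `m ≥ 5`** (modulo OG-O), except `q = 2`, `m = 5, 6, 9` -/
theorem spr_ominus_of {m : ℕ} {F : Type} [Field F] [Fintype F]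
    (og : OgO ((Fin (m - 1) ⊕ Fin (m - 1)) ⊕ Fin 2) F) (hm : 5 ≤ m)
    (hq2 : Fintype.card F = 2 → m ≠ 5 ∧ m ≠ 6 ∧ m ≠ 9) {a b : F}
    (hab : ∀ z₁ z₂ : F, z₁ ^ 2 + a * z₁ * z₂ + b * z₂ ^ 2 = 0 → z₁ = 0 ∧ z₂ = 0)
    [IsSimpleGroup (POmega F (quadFormMinus (m - 1) F a b))]
    (hna : ∃ x y : POmega F (quadFormMinus (m - 1) F a b), x * y ≠ y * x) :
    Spr (POmega F (quadFormMinus (m - 1) F a b)) := by
  have hcard : Fintype.card ((Fin (m - 1) ⊕ Fin (m - 1)) ⊕ Fin 2) = 2 * m := by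
    simp only [Fintype.card_sum, Fintype.card_fin]
    omega
  have hQ : Nondeg (minusForm (m - 1) F a b) := nondeg_minusForm (m - 1) F a b hab
  have hmod : Mod (minusForm (m - 1) F a b) m (-1) := by
    intro V _ _ _ Q' hV hQ' hs
    obtain ⟨e, he⟩ := exists_minus (by omega) hV Q' hQ' hs hab
    exact ⟨e, fun u => by rw [he, coe_minusForm]⟩
  rename_i hsimple
  revert hna
  revert hsimple
  rw [← coe_minusForm]
  intro hsimple hna
  rw [← Nat.card_eq_fintype_card] at hq2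
  exact row_all hQ og hcard hmod hm hq2 hna

/-- **S3938, row `PΩ⁻`** : `hP` is the text of `S5948` -/
theorem spr_ominus (hP : Cfsg.Agent.H659.CovCore.S5948Stmt.{0}) {m : ℕ} {F : Type} [Field F] [Fintype F]
    (hm : 5 ≤ m) (hq2 : Fintype.card F = 2 → m ≠ 5 ∧ m ≠ 6 ∧ m ≠ 9) {a b : F}
    (hab : ∀ z₁ z₂ : F, z₁ ^ 2 + a * z₁ * z₂ + b * z₂ ^ 2 = 0 → z₁ = 0 ∧ z₂ = 0)
    [IsSimpleGroup (POmega F (quadFormMinus (m - 1) F a b))]
    (hna : ∃ x y : POmega F (quadFormMinus (m - 1) F a b), x * y ≠ y * x) :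
    Spr (POmega F (quadFormMinus (m - 1) F a b)) :=
  spr_ominus_of (ogO_all hP _ F) hm hq2 hab hna

end Cfsg.Agent.H688.Spr
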