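import Cfsg.Agent.H688.Spr.EltT
import Cfsg.Agent.H688.Cov.Star

/-!
# S3938, orthogonal groups of minus type: no field of degree two for the element `neg j + Tm` (helper688)
-/

set_option autoImplicit false
set_option linter.unusedSectionVars false

namespace Cfsg.Agent.H688.Spr

open Cfsg Cfsg.Geo Module
open Cfsg.Agent.H278.Cov Cfsg.Agent.H383.Cov Cfsg.Agent.H688.Cov
open Cfsg.Agent.LieClassical.OrthCore (Nondeg)
open Cfsg.Agent.H377 (HasSign sumQ sumQ_apply sumQ_nondeg elt_tor_minus prodMap_pow' orderOf_prodMap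
  nondegenerate_of_nondeg)
open scoped MatrixGroups Matrix

section shape

variable {F : Type} [Field F] [Finite F] {K : Type} [Field K] [Finite K] [Algebra F K] {h : ℕ} {σ : K ≃ₐ[F] K} {c ε : K}

/-- the endomorphisms commuting with `Tm` -/
theorem HD.shape (hd : HD h σ c ε) {A : Module.End F (K × K)} (hA : A * Tm F c ε = Tm F c ε * A) :
    ∃ α β : K, ∀ v, A v = (α * v.1 + β * v.2, α * v.2) := by
  obtain ⟨a, b, ha, hb⟩ := hd.parts
  have hpow : ∀ n : ℕ, A * Tm F c ε ^ n = Tm F c ε ^ n * A := fun n => (Commute.pow_right (show Commute A _ from hA) n).eq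
  have h1 := hpow a
  have h2 := hpow b
  rw [ha] at h1
  rw [hb] at h2
  have hAc : ∀ v : K × K, A (c * v.1, c * v.2) = (c * (A v).1, c * (A v).2) := by
    intro v
    have h3 := LinearMap.congr_fun h1 v
    rw [Module.End.mul_apply, Module.End.mul_apply, Tm_apply, Tm_apply, zero_mul, add_zero, zero_mul, add_zero] at h3
    exact h3
  have hAk : ∀ (k : K) (v : K × K), A (k * v.1, k * v.2) = (k * (A v).1, k * (A v).2) := by
    intro k
    refine Algebra.adjoin_induction (R := F) (s := {c})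
      (p := fun k _ => ∀ v : K × K, A (k * v.1, k * v.2) = (k * (A v).1, k * (A v).2)) ?_ ?_ ?_ ?_ (hd.gen k)
    · intro x hx v
      rw [Set.mem_singleton_iff] at hx
      subst hx
      exact hAc v
    · intro r v
      have h3 := map_smul A r v
      have h4 : ∀ w : K × K, ((algebraMap F K) r * w.1, (algebraMap F K) r * w.2) = r • w := by
        intro w
        rw [← Algebra.smul_def, ← Algebra.smul_def]
        rfl
      rw [h4, h4]
      exact h3
    · intro x y _ _ hx hy v
      have h3 := map_add A (x * v.1, x * v.2) (y * v.1, y * v.2)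
      rw [hx, hy] at h3
      rw [add_mul, add_mul, add_mul, add_mul]
      exact h3
    · intro x y _ _ hx hy v
      have h3 := hx (y * v.1, y * v.2)
      rw [hy] at h3
      rw [mul_assoc, mul_assoc, mul_assoc, mul_assoc]
      exact h3
  set w := A (0, 1) with hw
  have h3 : A (ε, 1) = (w.1 + ε * w.2, w.2) := by
    have h4 := LinearMap.congr_fun h2 (0, 1)
    rw [Module.End.mul_apply, Module.End.mul_apply, Tm_apply, Tm_apply, one_mul, one_mul, one_mul, one_mul, mul_one,
      zero_add] at h4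
    exact h4
  have h4 : A (1, 0) = (w.2, 0) := by
    have h5 := hAk ε (1, 0)
    rw [mul_one, mul_zero] at h5
    have h6 := map_sub A (ε, 1) (0, 1)
    have h7 : ((ε, 1) : K × K) - (0, 1) = (ε, 0) := Prod.ext (sub_zero _) (sub_self _)
    rw [h7, h3, ← hw, h5] at h6
    have h8 : ε * (A (1, 0)).1 = w.1 + ε * w.2 - w.1 := congrArg Prod.fst h6
    have h9 : ε * (A (1, 0)).2 = w.2 - w.2 := congrArg Prod.snd h6
    refine Prod.ext ?_ ?_
    · apply mul_left_cancel₀ hd.eps0
      rw [h8]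
      change _ = ε * w.2
      ring
    · apply mul_left_cancel₀ hd.eps0
      rw [h9, sub_self]
      change _ = ε * 0
      rw [mul_zero]
  refine ⟨w.2, w.1, fun v => ?_⟩
  have h5 : v = (v.1 * 1, v.1 * 0) + (v.2 * 0, v.2 * 1) := by
    refine Prod.ext ?_ ?_
    · change v.1 = v.1 * 1 + v.2 * 0
      ring
    · change v.2 = v.1 * 0 + v.2 * 1
      ring
  have h6 := hAk v.1 (1, 0)
  have h7 := hAk v.2 (0, 1)
  rw [h4] at h6
  rw [← hw] at h7
  nth_rewrite 1 [h5]
  rw [map_add, h6, h7]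
  refine Prod.ext ?_ ?_
  · change v.1 * w.2 + v.2 * w.1 = w.2 * v.1 + w.1 * v.2
    ring
  · change v.1 * 0 + v.2 * w.2 = w.2 * v.2
    ring

/-- powers -/
theorem shape_pow {A : Module.End F (K × K)} {α β : K} (hA : ∀ v, A v = (α * v.1 + β * v.2, α * v.2)) (n : ℕ) :
    ∃ γ : K, ∀ v, (A ^ n) v = (α ^ n * v.1 + γ * v.2, α ^ n * v.2) := by
  induction n with
  | zero =>
    refine ⟨0, fun v => ?_⟩
    rw [pow_zero, pow_zero, Module.End.one_apply, one_mul, one_mul, zero_mul, add_zero]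
  | succ n ih =>
    obtain ⟨γ, hγ⟩ := ih
    refine ⟨α ^ n * β + γ * α, fun v => ?_⟩
    rw [pow_succ, Module.End.mul_apply, hγ, hA]
    refine Prod.ext ?_ ?_
    · change α ^ n * (α * v.1 + β * v.2) + γ * (α * v.2) = α ^ (n + 1) * v.1 + (α ^ n * β + γ * α) * v.2
      ring
    · change α ^ n * (α * v.2) = α ^ (n + 1) * v.2
      ring

end shape

section nofix

variable {ι : Type} [Fintype ι] [DecidableEq ι] {F : Type} [Field F] [Finite F]

open Cfsg.Agent.H907 (isField_of card_K) in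
theorem no_fix [Nonempty ι] {E : Subalgebra F (Matrix ι ι F)} (hE : IsFieldSubalgebra 2 E)
    (key : ∀ e ∈ E, e ^ Nat.card F = e) : False := by
  have := Fintype.ofFinite F
  let _ : Field E := (isField_of hE).toField
  have hfin : Finite E := inferInstance
  have := Fintype.ofFinite E
  have h1 : Fintype.card E = Fintype.card F ^ 2 := by
    rw [← Nat.card_eq_fintype_card, card_K hE]
  classical
  have hq : 1 < Fintype.card F := Fintype.one_lt_card
  have h2 : (Finset.univ : Finset E).card ≤ (Polynomial.X ^ Fintype.card F - Polynomial.X : Polynomial E).natDegree := by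
    have hp0 : (Polynomial.X ^ Fintype.card F - Polynomial.X : Polynomial E) ≠ 0 := FiniteField.X_pow_card_sub_X_ne_zero E hq
    have h3 : (Finset.univ : Finset E) ⊆ (Polynomial.X ^ Fintype.card F - Polynomial.X : Polynomial E).roots.toFinset := by
      intro e _
      rw [Multiset.mem_toFinset, Polynomial.mem_roots hp0, Polynomial.IsRoot.def, Polynomial.eval_sub,
        Polynomial.eval_pow, Polynomial.eval_X, sub_eq_zero]
      apply Subtype.ext
      have := key e e.2
      rwa [Nat.card_eq_fintype_card] at this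
    exact (Finset.card_le_card h3).trans ((Multiset.toFinset_card_le _).trans (Polynomial.card_roots' _))
  rw [Finset.card_univ, h1, FiniteField.X_pow_card_sub_X_natDegree_eq E hq] at h2
  nlinarith

/-- nonzero elements of a field of matrices are injective -/
theorem field_inj {r : ℕ} {E : Subalgebra F (Matrix ι ι F)} (hE : IsFieldSubalgebra r E) {a : Matrix ι ι F}
    (ha : a ∈ E) {v : ι → F} (hv : v ≠ 0) (h : a *ᵥ v = 0) : a = 0 := by
  by_contra ha0
  obtain ⟨b, hb, hab⟩ := hE.inv a ha ha0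
  apply hv
  have h1 : b *ᵥ (a *ᵥ v) = 0 := by rw [h, Matrix.mulVec_zero]
  rw [Matrix.mulVec_mulVec, hE.comm b hb a ha, hab, Matrix.one_mulVec] at h1
  exact h1

end nofix

section par

variable {ι : Type} [Fintype ι] [DecidableEq ι] {F : Type} [Field F] [Finite F] {Q : QuadraticForm F (ι → F)}
  {K : Type} [Field K] [Finite K] [Algebra F K] {σ : K ≃ₐ[F] K} {c ε : K} {h j N s s' : ℕ} {x : GL ι F}
  {Q₁ : QuadraticForm F (Fin (2 * j) → F)} {S : Module.End F (Fin (2 * j) → F)}
  {e : (ι → F) ≃ₗ[F] ((Fin (2 * j) → F) × (K × K))}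

theorem TD.isM_s (ht : TD Q h j σ c ε x Q₁ S e N s s') : IsM e (x ^ s) (S.prodMap (1 : Module.End F (K × K))) := by
  have := ht.isM.pow s
  rwa [prodMap_pow', ht.s1, ht.t1] at this

theorem TD.isM_s' (ht : TD Q h j σ c ε x Q₁ S e N s s') :
    IsM e (x ^ s') ((1 : Module.End F (Fin (2 * j) → F)).prodMap (Tm F c ε)) := by
  have := ht.isM.pow s'
  rwa [prodMap_pow', ht.s2, ht.t2] at this

theorem TD.polar (ht : TD Q h j σ c ε x Q₁ S e N s s') (v w : K × K) :
    QuadraticMap.polar Q (e.symm (0, v)) (e.symm (0, w)) = QuadraticMap.polar (hermQ (F := F) σ) v w := by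
  have h0 : ∀ v, Q (e.symm (0, v)) = hermQ σ v := by
    intro v
    rw [← ht.form, e.apply_symm_apply, sumQ_apply, map_zero, zero_add]
  have h1 : e.symm (0, v) + e.symm (0, w) = e.symm (0, v + w) := by
    rw [← map_add]
    congr 1
    exact Prod.ext (add_zero _) rfl
  rw [QuadraticMap.polar, QuadraticMap.polar, h1, h0, h0, h0]

theorem TD.no_ext [Nonempty ι] (hQ : Nondeg Q) (ht : TD Q h j σ c ε x Q₁ S e N s s') {H : Subgroup (GL ι F)}
    (hH : H ≤ isometryGroup F ⇑Q) (hirr : ¬ Red H) {E : Subalgebra F (Matrix ι ι F)} (hE : IsFieldSubalgebra 2 E)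
    (hN : H ≤ subalgebraNormalizer E) (hx : x ∈ H) (hpar : Odd (j + h)) : False := by
  have hfd : FiniteDimensional F K := Module.Finite.of_finite
  have hq : 2 ≤ Nat.card F := Finite.one_lt_card
  obtain ⟨h1, hodd, hcq, hN1, hj⟩ := num_facts hq ht.num
  have hy := H.pow_mem hx s
  have hu := H.pow_mem hx s'
  have hMy := ht.isM_s
  have hMu := ht.isM_s'
  -- `E` commutes with `x ^ s`
  have hcy : ∀ a ∈ E, ((x ^ s : GL ι F) : Matrix ι ι F) * a = a * ((x ^ s : GL ι F) : Matrix ι ι F) := fun a ha =>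
    comm_of_coprime hE (hN hy) (by rw [ht.ord]; exact Nat.coprime_two_right.2 hodd) ha
  have hcyv : ∀ a ∈ E, ∀ v, ((x ^ s : GL ι F) : Matrix ι ι F) *ᵥ (a *ᵥ v) =
      a *ᵥ (((x ^ s : GL ι F) : Matrix ι ι F) *ᵥ v) := by
    intro a ha v
    rw [Matrix.mulVec_mulVec, Matrix.mulVec_mulVec, hcy a ha]
  -- `E` preserves the second block
  have hE2 : ∀ a ∈ E, ∀ v, (e v).1 = 0 → (e (a *ᵥ v)).1 = 0 := by
    intro a ha v hv
    have h2 : ((x ^ s : GL ι F) : Matrix ι ι F) *ᵥ v = v := by
      rw [hMy.apply]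
      apply e.injective
      rw [e.apply_symm_apply]
      refine Prod.ext ?_ rfl
      change S (e v).1 = (e v).1
      rw [hv, map_zero]
    have h3 := hcyv a ha v
    rw [h2, hMy.apply] at h3
    have h4 := congrArg e h3
    rw [e.apply_symm_apply] at h4
    exact fix_eq_zero ht.ker (congrArg Prod.fst h4)
  -- `E` preserves the first block
  have hsurj : ∀ b : Fin (2 * j) → F, ∃ z, S z - z = b := by
    intro b
    have h2 : Function.Injective (S - 1 : Module.End F (Fin (2 * j) → F)) := LinearMap.ker_eq_bot.1 ht.ker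
    obtain ⟨z, hz⟩ := (LinearMap.injective_iff_surjective.1 h2) b
    exact ⟨z, hz⟩
  have hE1 : ∀ a ∈ E, ∀ v, (e v).2 = 0 → (e (a *ᵥ v)).2 = 0 := by
    intro a ha v hv
    obtain ⟨z, hz⟩ := hsurj (e v).1
    have h2 : v = ((x ^ s : GL ι F) : Matrix ι ι F) *ᵥ (e.symm (z, 0)) - e.symm (z, 0) := by
      rw [hMy.apply, e.apply_symm_apply, ← map_sub]
      apply e.injective
      rw [e.apply_symm_apply]
      refine Prod.ext hz.symm ?_
      rw [hv]
      change (0 : K × K) = 0 - 0
      rw [sub_zero]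
    rw [h2, Matrix.mulVec_sub, ← hcyv a ha, hMy.apply, map_sub, e.apply_symm_apply]
    change (e (a *ᵥ e.symm (z, 0))).2 - (e (a *ᵥ e.symm (z, 0))).2 = 0
    rw [sub_self]
  have hfix1 : ∀ v, (e v).2 = 0 → ((x ^ s' : GL ι F) : Matrix ι ι F) *ᵥ v = v := by
    intro v hv
    rw [hMu.apply]
    apply e.injective
    rw [e.apply_symm_apply]
    refine Prod.ext rfl ?_
    change Tm F c ε (e v).2 = (e v).2
    rw [hv, map_zero]
  -- `E` commutes with `x ^ s'`
  have hcu : ∀ a ∈ E, ((x ^ s' : GL ι F) : Matrix ι ι F) * a = a * ((x ^ s' : GL ι F) : Matrix ι ι F) := by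
    intro a ha
    have ha' := (hN hu a).1 ha
    set a' : Matrix ι ι F := ((x ^ s' : GL ι F) : Matrix ι ι F) * a * (((x ^ s')⁻¹ : GL ι F) : Matrix ι ι F) with ha'def
    have h2 : ((x ^ s' : GL ι F) : Matrix ι ι F) * a = a' * ((x ^ s' : GL ι F) : Matrix ι ι F) := by
      rw [ha'def, mul_assoc, ← Units.val_mul, inv_mul_cancel, Units.val_one, mul_one]
    obtain ⟨b, hb⟩ : ∃ b : Fin (2 * j) → F, b ≠ 0 := by
      refine ⟨fun _ => 1, fun h0 => ?_⟩
      exact one_ne_zero (congrFun h0 ⟨0, by omega⟩)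
    have hv0 : e.symm (b, 0) ≠ 0 := by
      intro h0
      apply hb
      have := (LinearEquiv.map_eq_zero_iff e.symm).1 h0
      exact congrArg Prod.fst this
    have h3 : (a' - a) *ᵥ e.symm (b, 0) = 0 := by
      have hb2 : (e (e.symm (b, (0 : K × K)))).2 = 0 := by rw [e.apply_symm_apply]
      have h4 : ((x ^ s' : GL ι F) : Matrix ι ι F) *ᵥ (a *ᵥ e.symm (b, 0)) =
          a' *ᵥ (((x ^ s' : GL ι F) : Matrix ι ι F) *ᵥ e.symm (b, 0)) := by
        rw [Matrix.mulVec_mulVec, Matrix.mulVec_mulVec, h2]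
      rw [hfix1 _ hb2, hfix1 _ (hE1 a ha _ hb2)] at h4
      rw [Matrix.sub_mulVec, h4, sub_self]
    have h4 := field_inj hE (E.sub_mem ha' ha) hv0 h3
    rw [h2, sub_eq_zero.1 h4]
  apply no_fix hE
  intro a ha
  -- the operator on the second block
  let A : Module.End F (K × K) := (LinearMap.snd F (Fin (2 * j) → F) (K × K)).comp ((e : (ι → F) →ₗ[F] _).comp
    ((Matrix.toLin' a).comp ((e.symm : _ →ₗ[F] (ι → F)).comp (LinearMap.inr F (Fin (2 * j) → F) (K × K)))))
  have hA : ∀ v, a *ᵥ e.symm (0, v) = e.symm (0, A v) := by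
    intro v
    apply e.injective
    rw [e.apply_symm_apply]
    refine Prod.ext ?_ rfl
    exact hE2 a ha _ (by rw [e.apply_symm_apply])
  have hAT : A * Tm F c ε = Tm F c ε * A := by
    apply LinearMap.ext
    intro v
    have h2 : ((x ^ s' : GL ι F) : Matrix ι ι F) *ᵥ (a *ᵥ e.symm (0, v)) =
          a *ᵥ (((x ^ s' : GL ι F) : Matrix ι ι F) *ᵥ e.symm (0, v)) := by
        rw [Matrix.mulVec_mulVec, Matrix.mulVec_mulVec, hcu a ha]
    have h3 : ∀ w, ((x ^ s' : GL ι F) : Matrix ι ι F) *ᵥ e.symm (0, w) = e.symm (0, Tm F c ε w) := by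
      intro w
      rw [hMu.apply, e.apply_symm_apply]
      rfl
    rw [hA, h3, h3, hA] at h2
    exact (congrArg Prod.snd (e.symm.injective h2)).symm
  obtain ⟨α, β, hαβ⟩ := ht.hd.shape hAT
  have hAn : ∀ (n : ℕ) (v : K × K), a ^ n *ᵥ e.symm (0, v) = e.symm (0, (A ^ n) v) := by
    intro n
    induction n with
    | zero => intro v; rw [pow_zero, pow_zero, Matrix.one_mulVec, Module.End.one_apply]
    | succ n ih =>
      intro v
      rw [pow_succ, pow_succ, ← Matrix.mulVec_mulVec, hA, ih, Module.End.mul_apply]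
  -- the adjoint
  have h2 : α = σ (α ^ (Nat.card F ^ j)) := by
    obtain ⟨γ, hγ⟩ := shape_pow hαβ (Nat.card F ^ j)
    have h3 : ∀ t : K, Algebra.trace F K (t * (α - σ (α ^ (Nat.card F ^ j)))) = 0 := by
      intro t
      have h4 := adj_of_mem (isND hQ) hH hirr hE hN hy hj (by rw [ht.ord]; exact hodd) (by rw [ht.ord]; exact h1) ht.blk
        ha (e.symm (0, (t, 0))) (e.symm (0, (0, 1)))
      rw [hA, hAn, ht.polar, ht.polar, hermQ_polar, hermQ_polar, hγ, hαβ] at h4
      change Algebra.trace F K ((α * t + β * 0) * σ 1) + Algebra.trace F K (0 * σ (α * 0)) =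
        Algebra.trace F K (t * σ (α ^ (Nat.card F ^ j) * 1)) +
          Algebra.trace F K ((α ^ (Nat.card F ^ j) * 0 + γ * 1) * σ 0) at h4
      rw [mul_zero β, add_zero, map_one, mul_one, zero_mul, map_zero (Algebra.trace F K), add_zero, mul_one,
        map_zero σ, mul_zero, map_zero (Algebra.trace F K), add_zero] at h4
      rw [mul_sub, map_sub, mul_comm t α, h4, sub_self]
    have h5 : ((0 : K), σ (α - σ (α ^ (Nat.card F ^ j)))) = 0 := by
      apply hermQ_nondeg (F := F) σ
      intro w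
      rw [hermQ_polar]
      change Algebra.trace F K (0 * σ w.2) + Algebra.trace F K (w.1 * σ (σ (α - σ (α ^ (Nat.card F ^ j))))) = 0
      rw [ht.hd.invol, h3, zero_mul, map_zero, add_zero]
    have h6 : σ (α - σ (α ^ (Nat.card F ^ j))) = 0 := congrArg Prod.snd h5
    exact sub_eq_zero.1 ((map_eq_zero σ).1 h6)
  have h3 : α ^ (Nat.card F ^ 2) = α := by
    obtain ⟨γ, hγ⟩ := shape_pow hαβ (Nat.card F ^ 2)
    have h4 := hAn (Nat.card F ^ 2) (1, 0)
    rw [pow_of_even hE ha even_two, hA] at h4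
    have h5 := congrArg Prod.snd (e.symm.injective h4)
    change A (1, 0) = (A ^ (Nat.card F ^ 2)) (1, 0) at h5
    rw [hγ, hαβ] at h5
    have h6 : α * 1 + β * 0 = α ^ (Nat.card F ^ 2) * 1 + γ * 0 := congrArg Prod.fst h5
    rw [mul_one, mul_zero, mul_one, mul_zero, add_zero, add_zero] at h6
    exact h6.symm
  have h4 : α ^ Nat.card F = α := by
    rw [ht.hd.frob, ← pow_mul, ← pow_add, pow_pow_odd h3 _ hpar] at h2
    exact h2.symm
  -- conclusion
  have h5 : (a ^ Nat.card F - a) *ᵥ e.symm (0, (1, 0)) = 0 := by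
    obtain ⟨γ, hγ⟩ := shape_pow hαβ (Nat.card F)
    rw [Matrix.sub_mulVec, hA, hAn, hγ, hαβ, h4, sub_eq_zero]
    congr 2
    refine Prod.ext ?_ rfl
    change α * 1 + γ * 0 = α * 1 + β * 0
    rw [mul_zero, mul_zero]
  have h6 : e.symm ((0 : Fin (2 * j) → F), ((1 : K), (0 : K))) ≠ 0 := by
    intro h0
    have h7 := (LinearEquiv.map_eq_zero_iff e.symm).1 h0
    exact one_ne_zero (congrArg (fun z : (Fin (2 * j) → F) × (K × K) => z.2.1) h7)
  exact sub_eq_zero.1 (field_inj hE (E.sub_mem (E.pow_mem ha _) ha) h6 h5)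

end par

end Cfsg.Agent.H688.Spr
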