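import Cfsg.Agent.H688.Spr.ParT

/-!
# S3938, orthogonal groups of minus type: the row with the element `neg j + Tm` (helper688)

The only invariant subspaces of the element of dimension less than `2 j` are `W1` (totally singular of dimension `2 h`) and
`W2` (of plus type and dimension `4 h`).
-/

set_option autoImplicit false
set_option linter.unusedSectionVars false

namespace Cfsg.Agent.H688.Spr

open Cfsg Cfsg.Geo Module
open Cfsg.Agent.H278.Cov Cfsg.Agent.H383.Cov Cfsg.Agent.H688.Cov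
open Cfsg.Agent.H424.Spr (Spr)
open Cfsg.Agent.LieClassical.OrthCore (Nondeg)
open Cfsg.Agent.H377 (HasSign sumQ sumQ_apply sumQ_nondeg elt_tor_minus prodMap_pow' orderOf_prodMap
  nondegenerate_of_nondeg)
open scoped MatrixGroups Matrix

section wu

variable {ι : Type} [Fintype ι] [DecidableEq ι] {F : Type} [Field F] [Finite F] {V V' : Type} [AddCommGroup V]
  [Module F V] [Finite V] [AddCommGroup V'] [Module F V'] [Finite V'] {e : (ι → F) ≃ₗ[F] (V × V')}

/-- the subspace `0 × U` -/
def WU (e : (ι → F) ≃ₗ[F] (V × V')) (U : Submodule F V') : Submodule F (ι → F) :=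
  ((⊥ : Submodule F V).prod U).comap (e : (ι → F) →ₗ[F] (V × V'))

theorem mem_WU {U : Submodule F V'} {v : ι → F} : v ∈ WU e U ↔ (e v).1 = 0 ∧ (e v).2 ∈ U := by
  rw [WU, Submodule.mem_comap, Submodule.mem_prod, Submodule.mem_bot]
  rfl

theorem finrank_WU (U : Submodule F V') : finrank F (WU e U) = finrank F U := by
  have : FiniteDimensional F V := Module.Finite.of_finite
  have : FiniteDimensional F V' := Module.Finite.of_finite
  have h1 : (WU e U).map (e : (ι → F) →ₗ[F] (V × V')) = (⊥ : Submodule F V).prod U := by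
    rw [WU]
    exact Submodule.map_comap_eq_of_surjective e.surjective _
  rw [← finrank_map_e (e := e), h1, finrank_submodule_prod, finrank_bot, zero_add]

theorem eq_WU {W : Submodule F (ι → F)} (h : ∀ w ∈ W, (e w).1 = 0) :
    W = WU e ((W.map (e : (ι → F) →ₗ[F] (V × V'))).map (LinearMap.snd F V V')) := by
  ext v
  rw [mem_WU]
  constructor
  · intro hv
    exact ⟨h v hv, ⟨e v, ⟨v, hv, rfl⟩, rfl⟩⟩
  · rintro ⟨h1, ⟨-, ⟨w, hw, rfl⟩, hwv⟩⟩
    have h2 : e w = e v := Prod.ext ((h w hw).trans h1.symm) hwv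
    rw [← e.injective h2]
    exact hw

end wu

section row

variable {ι : Type} [Fintype ι] [DecidableEq ι] {F : Type} [Field F] [Finite F] {Q : QuadraticForm F (ι → F)}
  {K : Type} [Field K] [Finite K] [Algebra F K] {σ : K ≃ₐ[F] K} {c ε : K} {h j N s s' : ℕ} {x : GL ι F}
  {Q₁ : QuadraticForm F (Fin (2 * j) → F)} {S : Module.End F (Fin (2 * j) → F)}
  {e : (ι → F) ≃ₗ[F] ((Fin (2 * j) → F) × (K × K))}

theorem TD.small (ht : TD Q h j σ c ε x Q₁ S e N s s') {W : Submodule F (ι → F)}
    (hW : ∀ w ∈ W, (x : Matrix ι ι F) *ᵥ w ∈ W) (hd : finrank F W < 2 * j) :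
    W = ⊥ ∨ W = WU e ((⊤ : Submodule F K).prod ⊥) ∨ W = WU e ⊤ := by
  have hfd : FiniteDimensional F K := Module.Finite.of_finite
  have hq : 2 ≤ Nat.card F := Finite.one_lt_card
  obtain ⟨h1, hodd, hcq, hN1, hj⟩ := num_facts hq ht.num
  have h2 : ∀ w ∈ W, (e w).1 = 0 := by
    intro w hw
    exact fst_zero (T := Tm F c ε) ht.s1 ht.t1 ht.pow hcq ht.num.prim ht.ker
      (by rwa [finrank_map_e]) (ht.isM.inv_map hW) (Submodule.mem_map_of_mem hw)
  have h3 := eq_WU h2
  set U := (W.map (e : (ι → F) →ₗ[F] ((Fin (2 * j) → F) × (K × K)))).map (LinearMap.snd F _ _) with hU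
  have h4 : ∀ u ∈ U, Tm F c ε u ∈ U := by
    rintro _ ⟨w, hw, rfl⟩
    exact ⟨_, ht.isM.inv_map hW w hw, rfl⟩
  rcases ht.hd.invs h4 with h5 | h5 | h5
  · left
    rw [h3, h5, Submodule.eq_bot_iff]
    intro v hv
    rw [mem_WU] at hv
    exact (LinearEquiv.map_eq_zero_iff e).1 (Prod.ext hv.1 ((Submodule.mem_bot F).1 hv.2))
  · right; left
    rw [h3, h5]
  · right; right
    rw [h3, h5]

theorem TD.rank1 (ht : TD Q h j σ c ε x Q₁ S e N s s') :
    finrank F (WU e ((⊤ : Submodule F K).prod (⊥ : Submodule F K))) = 2 * h := by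
  have hfd : FiniteDimensional F K := Module.Finite.of_finite
  rw [finrank_WU, finrank_submodule_prod, finrank_top, finrank_bot, add_zero, ht.hd.dim]

theorem TD.rank2 (ht : TD Q h j σ c ε x Q₁ S e N s s') : finrank F (WU e (⊤ : Submodule F (K × K))) = 4 * h := by
  have hfd : FiniteDimensional F K := Module.Finite.of_finite
  rw [finrank_WU, finrank_top, Module.finrank_prod, ht.hd.dim]
  ring

/-- **the row** -/
theorem row_T [Nonempty ι] (hQ : Nondeg Q) (og : OgO ι F) {m h j N : ℕ} (hcard : Fintype.card ι = 2 * m)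
    (hjh : j + 2 * h = m) (h1 : 1 ≤ h) (h2 : h ≤ 2) (hpar : Odd (j + h))
    (hnum : Num (Nat.card F) (Fintype.card ι) (2 * j) N) (hmod : Mod Q m (-1))
    [IsSimpleGroup (POmega F ⇑Q)] (hna : ∃ x y : POmega F ⇑Q, x * y ≠ y * x) : Spr (POmega F ⇑Q) := by
  have h5 : 5 ≤ Fintype.card ι := by have := hnum.ten; omega
  have hlt := hnum.lt
  obtain ⟨K, _, _, _, σ, c, ε, hd⟩ := exists_HD F h1
  obtain ⟨x, Q₁, S, e, s, s', ht⟩ := exists_TD hQ hcard hjh hnum hd hmod
  have hr1 := ht.rank1
  have hr2 := ht.rank2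
  have hne : ∀ W : Submodule F (ι → F), 1 ≤ finrank F W → finrank F W < Fintype.card ι → W ≠ ⊥ ∧ W ≠ ⊤ := by
    intro W ha hb
    constructor
    · rintro rfl
      rw [finrank_bot] at ha
      omega
    · rintro rfl
      rw [finrank_top, Module.finrank_fintype_fun_eq_card] at hb
      omega
  obtain ⟨a1, b1⟩ := hne _ (by rw [hr1]; omega) (by rw [hr1]; omega)
  obtain ⟨a2, b2⟩ := hne _ (by rw [hr2]; omega) (by rw [hr2]; omega)
  have hxT : ∀ v, e ((x : Matrix ι ι F) *ᵥ v) = (S (e v).1, Tm F c ε (e v).2) := by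
    intro v
    rw [ht.isM.apply, e.apply_symm_apply]
    rfl
  refine spr_gl hQ h5 hna ht.mem (neg_one_mem_stab (WU e ((⊤ : Submodule F K).prod ⊥)))
    (neg_one_mem_stab (WU e (⊤ : Submodule F (K × K)))) (not_le_stab hQ h5 a1 b1) (not_le_stab hQ h5 a2 b2) ?_ ?_
  · intro y hy hyM
    have hx2 : x ∈ subspaceStabilizer (WU e (⊤ : Submodule F (K × K))) := by
      rw [mem_stab]
      intro w hw
      rw [mem_WU] at hw ⊢
      rw [hxT, hw.1]
      exact ⟨map_zero S, trivial⟩
    have hx1 := (hyM x ht.mem).1 hx2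
    rw [mem_stab] at hx1
    set W := (WU e ((⊤ : Submodule F K).prod (⊥ : Submodule F K))).map (Matrix.toLin' (y : Matrix ι ι F)) with hW
    have hWx : ∀ w ∈ W, (x : Matrix ι ι F) *ᵥ w ∈ W := by
      rintro _ ⟨w, hw, rfl⟩
      refine ⟨_, hx1 w hw, ?_⟩
      rw [Matrix.toLin'_apply, Matrix.toLin'_apply, Matrix.mulVec_mulVec, Matrix.mulVec_mulVec, ← Units.val_mul,
        ← Units.val_mul]
      congr 2
      group
    have hWr : finrank F W = 2 * h := by rw [hW, finrank_map_gl, hr1]
    have hWe : W = WU e ((⊤ : Submodule F K).prod ⊥) := by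
      rcases ht.small hWx (by omega) with h3 | h3 | h3
      · rw [h3, finrank_bot] at hWr
        omega
      · exact h3
      · rw [h3, hr2] at hWr
        omega
    have hy1 : y ∈ subspaceStabilizer (WU e ((⊤ : Submodule F K).prod (⊥ : Submodule F K))) := by
      rw [mem_stab]
      intro w hw
      have h3 : (y : Matrix ι ι F) *ᵥ w ∈ W := ⟨w, hw, rfl⟩
      rwa [hWe] at h3
    intro g hg
    rw [hyM g hg, Subgroup.mul_mem_cancel_right _ hy1, Subgroup.mul_mem_cancel_left _ (Subgroup.inv_mem _ hy1)]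
  · intro H hH hHne hxH
    have hst : ∀ W : Submodule F (ι → F), (∀ g ∈ H, ∀ w ∈ W, (g : Matrix ι ι F) *ᵥ w ∈ W) →
        H ≤ subspaceStabilizer W := fun W hW g hg => mem_stab.2 (hW g hg)
    by_cases hred : Red H
    · obtain ⟨W, hW0, hWd, hW⟩ := exists_small hQ (hH.trans omegaGL_le) hred
      rcases ht.small (hW x hxH) (by omega) with h3 | h3 | h3
      · exact absurd h3 hW0
      · left
        rw [← h3]
        exact hst W hW
      · right
        rw [← h3]
        exact hst W hW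
    · exfalso
      rcases og _ _ (isND hQ) H hH hHne (x ^ s) (H.pow_mem hxH s) (by rw [ht.ord]; exact hnum) with h3 | ⟨r, E, hr, hrd, hE, hN⟩
      · exact hred h3
      · have hr2 : r = 2 := by
          have h4 : r ∣ Fintype.card ι - 2 * j :=
            Nat.dvd_sub (hrd.trans (Nat.gcd_dvd_left _ _)) (hrd.trans (Nat.gcd_dvd_right _ _))
          have h6 : Fintype.card ι - 2 * j = 4 * h := by omega
          rw [h6] at h4
          have h7 : r ∣ 2 ^ 3 := h4.trans (by
            interval_cases h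
            · exact ⟨2, by norm_num⟩
            · exact ⟨1, by norm_num⟩)
          exact (Nat.prime_dvd_prime_iff_eq hr Nat.prime_two).1 (hr.dvd_of_dvd_pow h7)
        subst hr2
        exact ht.no_ext hQ (hH.trans omegaGL_le) hred hE hN hxH hpar

end row

end Cfsg.Agent.H688.Spr
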