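import Cfsg.Agent.H604.Spr.Semi
import Cfsg.Agent.H688.Spr.RowT

/-!
# S3938, `PΩ⁻₁₈(2)`: isometries over the field with two elements (helper688)

`exists_pair` : an isometry `T ≠ 1` over `F₂` which is not a transvection `z ↦ z + b(z, w) w` moves the three nonzero
vectors of some hyperbolic plane.
-/

set_option autoImplicit false
set_option linter.unusedSectionVars false

namespace Cfsg.Agent.H688.Spr.Two

open Cfsg Cfsg.Geo Module
open QuadraticMap hiding proj
open Cfsg.Agent.LieClassical.OrthCore Cfsg.Agent.LieClassical.OrthTrans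
open Cfsg.Agent.AutOrth.SemiSim (IsSemi)

section

variable {F V : Type*} [Field F] [Finite F] [AddCommGroup V] [Module F V] [FiniteDimensional F V]
  {Q : QuadraticForm F V}

theorem f2 (hF : Nat.card F = 2) (c : F) : c = 0 ∨ c = 1 := by
  by_cases h : c = 0
  · exact Or.inl h
  · right
    have := Fintype.ofFinite F
    have h1 := FiniteField.pow_card_sub_one_eq_one c h
    rw [← Nat.card_eq_fintype_card, hF] at h1
    simpa using h1

theorem two0 (hF : Nat.card F = 2) : (1 : F) + 1 = 0 := by
  rcases f2 hF ((1 : F) + 1) with h | h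
  · exact h
  · exfalso
    have h1 : (1 : F) = 0 := by linear_combination h
    exact one_ne_zero h1

theorem addself (hF : Nat.card F = 2) (v : V) : v + v = 0 := by
  have h1 : v + v = ((1 : F) + 1) • v := by rw [add_smul, one_smul]
  rw [h1, two0 hF, zero_smul]

theorem negself (hF : Nat.card F = 2) (v : V) : -v = v := neg_eq_of_add_eq_zero_left (addself hF v)

theorem subeq (hF : Nat.card F = 2) (v w : V) : v - w = v + w := by rw [sub_eq_add_neg, negself hF w]

theorem polself (hF : Nat.card F = 2) (v : V) : polar Q v v = 0 := by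
  rw [polar, addself hF, map_zero, zero_sub, sub_eq_add_neg, ← neg_add]
  have h := addself (V := F) hF (Q v)
  rw [h, neg_zero]

variable {T : V ≃+ V} {σ : F ≃+* F} {μ : F}

theorem sig (hF : Nat.card F = 2) (c : F) : σ c = c := by
  rcases f2 hF c with rfl | rfl
  · exact map_zero σ
  · exact map_one σ

theorem semi_smul (hF : Nat.card F = 2) (hM : IsSemi Q T σ μ) (c : F) (v : V) : T (c • v) = c • T v := by
  rw [hM.smul, sig hF]

theorem semi_form (hF : Nat.card F = 2) (hM : IsSemi Q T σ μ) (v : V) : Q (T v) = Q v := by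
  rw [hM.form, sig hF, (f2 hF μ).resolve_left hM.ne, one_mul]

theorem semi_polar (hF : Nat.card F = 2) (hM : IsSemi Q T σ μ) (v w : V) : polar Q (T v) (T w) = polar Q v w := by
  rw [hM.polar, sig hF, (f2 hF μ).resolve_left hM.ne, one_mul]

/-- **a hyperbolic plane meeting the fixed space trivially** -/
theorem exists_pair (hF : Nat.card F = 2) (hG : Good Q) (hd : 7 ≤ finrank F V) (hM : IsSemi Q T σ μ)
    (hT : ∃ v, T v ≠ v) (hnr : ∀ w, ∃ z, T z ≠ z + polar Q z w • w) :
    ∃ u v, Hyp Q u v ∧ T u ≠ u ∧ T v ≠ v ∧ T (u + v) ≠ u + v := by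
  obtain ⟨x, y, hxy⟩ := hG.exists_hyp
  -- a singular vector moved by `T`
  obtain ⟨u, hu, hTu⟩ : ∃ u, Q u = 0 ∧ T u ≠ u := by
    by_contra hcon
    push Not at hcon
    obtain ⟨v, hv⟩ := hT
    apply hv
    refine sing_induction (Q := Q) hxy (P := fun a => T a = a) ?_ hcon v
    intro a c ha hc
    rw [map_add, ha, hc]
  have hu0 : u ≠ 0 := by
    rintro rfl
    exact hTu (map_zero T)
  have hD : ∀ x, T x = x → ∀ z, polar Q x (T z + z) = 0 := by
    intro x hx z
    rw [polar_add_right]
    nth_rewrite 1 [← hx]
    rw [semi_polar hF hM]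
    exact addself (V := F) hF _
  have hpol : ∀ a b : V, polar Q a b = 0 ∨ polar Q a b = 1 := fun a b => f2 hF _
  -- the vector `z`
  obtain ⟨z, hz0, hzu, hzU⟩ : ∃ z, z ≠ 0 ∧ polar Q z u = 0 ∧ ∀ x, T x = x → polar Q z x = 0 := by
    by_contra hcon
    push Not at hcon
    have key : ∀ y, T y + y ≠ 0 → polar Q (T y + y) u = 1 := by
      intro y hy
      rcases hpol (T y + y) u with h | h
      · exfalso
        obtain ⟨x, hx, hne⟩ := hcon _ hy h
        apply hne
        rw [polar_comm]
        exact hD x hx y
      · exact h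
    have hw0 : T u + u ≠ 0 := by
      intro h
      apply hTu
      rw [← subeq hF] at h
      exact sub_eq_zero.1 h
    set w := T u + u with hw
    have hwu := key u hw0
    rw [← hw] at hwu
    have hQw : Q w = 1 := by
      have h1 : Q w = Q (T u) + Q u + polar Q (T u) u := Q_add _ _
      rw [semi_form hF hM, hu, add_zero, zero_add] at h1
      rw [h1]
      have h2 : polar Q w u = polar Q (T u) u + polar Q u u := by rw [hw, polar_add_left]
      rw [polself hF, add_zero] at h2
      rw [← h2, hwu]
    obtain ⟨z, hz⟩ := hnr w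
    apply hz
    by_cases h0 : T z + z = 0
    · have h1 : T z = z := by
        rw [← subeq hF] at h0
        exact sub_eq_zero.1 h0
      rw [h1, hw, hD z h1 u, zero_smul, add_zero]
    · have h1 : T z + z = w := by
        by_contra hne
        have h2 : T (z + u) + (z + u) = (T z + z) + w := by
          rw [map_add, hw]
          abel
        have h3 : T (z + u) + (z + u) ≠ 0 := by
          intro h4
          rw [h2, ← subeq hF] at h4
          exact hne (sub_eq_zero.1 h4)
        have h5 := key _ h3
        rw [h2, polar_add_left, key z h0, hwu, two0 hF] at h5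
        exact zero_ne_one h5
      have h2 : T z = z + w := by
        rw [← h1, add_comm (T z) z, ← add_assoc, addself hF, zero_add]
      have h3 : polar Q z w = 1 := by
        have h4 := semi_form hF hM z
        rw [h2, Q_add, hQw] at h4
        rcases hpol z w with h | h
        · rw [h, add_zero] at h4
          have : (1 : F) = 0 := by linear_combination h4
          exact absurd this one_ne_zero
        · exact h
      rw [h3, one_smul, h2]
  -- the second vector
  obtain ⟨v₀, hv₀⟩ := exists_hyp hG.nondeg hu hu0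
  obtain ⟨v, hv, hzv⟩ : ∃ v, Hyp Q u v ∧ polar Q z v = 1 := by
    by_cases h1 : polar Q z v₀ = 1
    · exact ⟨v₀, hv₀, h1⟩
    have h1' : polar Q z v₀ = 0 := (hpol z v₀).resolve_right h1
    obtain ⟨z₁, a1, a2, a3, a4⟩ := Cfsg.Agent.H604.Spr.exists_sing_sep hG.nondeg hd (a := u) (b := v₀) (c := z) (by
      intro s t hst
      have h2 := hzu
      rw [hst, polar_add_left, polar_smul_left, polar_smul_left, hv₀.polar_left, hv₀.pair', smul_zero, zero_add,
        smul_eq_mul, mul_one] at h2
      rw [h2, zero_smul, add_zero] at hst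
      rcases f2 hF s with rfl | rfl
      · rw [zero_smul] at hst
        exact hz0 hst
      · rw [one_smul] at hst
        apply h1
        rw [hst, hv₀.pair])
    refine ⟨v₀ + z₁, ⟨hu, ?_, ?_⟩, ?_⟩
    · rw [Q_add, hv₀.right, a1, a3]
      simp
    · rw [polar_add_right, hv₀.pair, a2, add_zero]
    · rw [polar_add_right, h1', zero_add]
      exact (hpol z z₁).resolve_left a4
  refine ⟨u, v, hv, hTu, ?_, ?_⟩
  · intro h
    rw [hzU v h] at hzv
    exact zero_ne_one hzv
  · intro h
    have h1 := hzU _ h
    rw [polar_add_right, hzu, hzv, zero_add] at h1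
    exact one_ne_zero h1

end

end Cfsg.Agent.H688.Spr.Two
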