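import Cfsg.Agent.H688.Spr.TwoA
import Cfsg.Agent.H688.Spr.Fields

/-!
# S3938, `PΩ⁻₁₈(2)`: fields with four elements (helper688)

* `no_ext_refl` : an irreducible group of isometries over `F₂` invariant under a transvection normalises no field of
  matrices with four elements;
* `no_ext_even` : an irreducible group with a block element of order dividing `2 ^ a + 1`, `a` even, and fixed space a
  hyperbolic plane normalises no such field.
-/

set_option autoImplicit false
set_option linter.unusedSectionVars false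

namespace Cfsg.Agent.H688.Spr.Two

open Cfsg Cfsg.Geo Module
open QuadraticMap hiding proj
open Cfsg.Agent.H278.Cov Cfsg.Agent.H383.Cov Cfsg.Agent.H688.Cov
open Cfsg.Agent.LieClassical.OrthCore Cfsg.Agent.LieClassical.OrthTrans
open Cfsg.Agent.AutOrth.SemiSim (IsSemi)
open Cfsg.Agent.H604.Spr (Bad tg tg_apply)
open scoped MatrixGroups Matrix

variable {ι : Type} [Fintype ι] [DecidableEq ι] {F : Type} [Field F] [Finite F] {Q : QuadraticForm F (ι → F)}

theorem field_cancel {r : ℕ} {E : Subalgebra F (Matrix ι ι F)} (hE : IsFieldSubalgebra r E) {a b : Matrix ι ι F}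
    (ha : a ∈ E) (h0 : a ≠ 0) (hab : a * b = 0) : b = 0 := by
  obtain ⟨c, hc, hac⟩ := hE.inv a ha h0
  have h1 : c * a = 1 := by rw [hE.comm c hc a ha, hac]
  calc b = (c * a) * b := by rw [h1, one_mul]
    _ = 0 := by rw [mul_assoc, hab, mul_zero]

theorem gen4 [Nonempty ι] (hF : Nat.card F = 2) {E : Subalgebra F (Matrix ι ι F)} (hE : IsFieldSubalgebra 2 E) :
    ∃ e ∈ E, e * e = e + 1 := by
  obtain ⟨e, he, hne⟩ : ∃ e ∈ E, e ^ Nat.card F ≠ e := by
    by_contra hcon
    push Not at hcon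
    exact no_fix hE hcon
  refine ⟨e, he, ?_⟩
  rw [hF, pow_two] at hne
  have h1 := pow_of_even hE he (a := 2) even_two
  rw [hF] at h1
  have h2 : (e * e - e) * (e * e + e + 1) = 0 := by
    have h3 : (e * e - e) * (e * e + e + 1) = e ^ (2 ^ 2) - e := by
      have : (2 : ℕ) ^ 2 = 4 := rfl
      rw [this]
      noncomm_ring
    rw [h3, h1, sub_self]
  have h3 := field_cancel hE (E.sub_mem (E.mul_mem he he) he) (sub_ne_zero.2 hne) h2
  have h4 : e * e = e * e + e + 1 + (e + 1) := by
    have h5 := addself (V := Matrix ι ι F) hF (e + 1)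
    rw [add_assoc (e * e) e 1, add_assoc, h5, add_zero]
  rw [h4, h3, zero_add]

theorem conj4 [Nonempty ι] (hF : Nat.card F = 2) {E : Subalgebra F (Matrix ι ι F)} (hE : IsFieldSubalgebra 2 E)
    {e : Matrix ι ι F} (he : e ∈ E) (he1 : e * e = e + 1) {h : GL ι F} (hh : h ∈ subalgebraNormalizer E) :
    (h : Matrix ι ι F) * e = e * h ∨ (h : Matrix ι ι F) * e = (e + 1) * h := by
  have hf : cj h e ∈ E := (mem_normalizer_iff.1 hh e).1 he
  have hfh : cj h e * h = (h : Matrix ι ι F) * e := by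
    rw [cj_apply, mul_assoc, ← Units.val_mul, inv_mul_cancel, Units.val_one, mul_one]
  have hff : cj h e * cj h e = cj h e + 1 := by
    rw [← map_mul, he1, map_add, map_one]
  set f := cj h e with hfdef
  have hcomm := hE.comm f hf e he
  by_cases h0 : f - e = 0
  · left
    rw [← hfh, sub_eq_zero.1 h0]
  · right
    have h1 : (f - e) * (f + e + 1) = 0 := by
      have h2 : (f - e) * (f + e + 1) = (f * f + f) - (e * e + e) + (f * e - e * f) := by noncomm_ring
      rw [h2, hcomm, sub_self, add_zero, hff, he1]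
      have h3 := addself (V := Matrix ι ι F) hF f
      have h4 := addself (V := Matrix ι ι F) hF e
      have h5 : f + 1 + f - (e + 1 + e) = (f + f) - (e + e) := by abel
      rw [h5, h3, h4, sub_self]
    have h2 := field_cancel hE (E.sub_mem hf he) h0 h1
    have h3 : f = e + 1 := by
      have h4 : f = f + e + 1 + (e + 1) := by
        rw [add_assoc f e 1, add_assoc, addself (V := Matrix ι ι F) hF (e + 1), add_zero]
      rw [h4, h2, zero_add]
    rw [← hfh, h3]

theorem not_eig (hF : Nat.card F = 2) {e : Matrix ι ι F} (he1 : e * e = e + 1) {v : ι → F} {c : F}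
    (hv : e *ᵥ v = c • v) : v = 0 := by
  have h1 : e *ᵥ (e *ᵥ v) = e *ᵥ v + v := by
    rw [Matrix.mulVec_mulVec, he1, Matrix.add_mulVec, Matrix.one_mulVec]
  rcases f2 hF c with rfl | rfl
  · rw [zero_smul] at hv
    rw [hv, Matrix.mulVec_zero, zero_add] at h1
    exact h1.symm
  · rw [one_smul] at hv
    rw [hv, hv] at h1
    exact (left_eq_add.1 h1)

theorem no_ext_even [Nonempty ι] (hF : Nat.card F = 2) (hQ : Nondeg Q) {H : Subgroup (GL ι F)}
    (hH : H ≤ isometryGroup F ⇑Q) (hirr : ¬ Red H) {E : Subalgebra F (Matrix ι ι F)} (hE : IsFieldSubalgebra 2 E)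
    (hN : H ≤ subalgebraNormalizer E) {x : GL ι F} (hx : x ∈ H) {a : ℕ} (ha : 1 ≤ a) (hev : Even a)
    (hodd : Odd (orderOf x)) (hM : orderOf x ∣ Nat.card F ^ a + 1) (hb : Blk (2 * a) x)
    (hcard : Fintype.card ι = 2 * a + 2) {u v : ι → F} (huv : Hyp Q u v)
    (hu : (x : Matrix ι ι F) *ᵥ u = u) (hv : (x : Matrix ι ι F) *ᵥ v = v) : False := by
  obtain ⟨e, he, he1⟩ := gen4 hF hE
  set f := e + 1 with hf
  have hfE : f ∈ E := E.add_mem he E.one_mem
  have hff : f * f = e := by
    have h1 : f * f = e * e + (e + e) + 1 := by rw [hf]; noncomm_ring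
    have h2 : (1 : Matrix ι ι F) + 1 = 0 := addself (V := Matrix ι ι F) hF 1
    rw [h1, addself (V := Matrix ι ι F) hF e, add_zero, he1, hf, add_assoc, h2, add_zero]
  have hadj : ∀ y z, polar Q (f *ᵥ y) z = polar Q y (f *ᵥ z) := by
    intro y z
    rw [adj_of_mem (isND hQ) hH hirr hE hN hx ha hodd hM hb hfE, pow_of_even hE hfE hev]
  have h1 : polar Q (e *ᵥ u) u = 0 := by
    rw [← hff, ← Matrix.mulVec_mulVec, hadj, polself hF]
  -- the fixed space
  have hcomm : (x : Matrix ι ι F) * e = e * x := comm_of_coprime hE (hN hx) (Nat.coprime_two_right.2 hodd) he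
  set Fx : Submodule F (ι → F) := LinearMap.ker (Matrix.toLin' (x : Matrix ι ι F) - 1) with hFx
  have memF : ∀ z, z ∈ Fx ↔ (x : Matrix ι ι F) *ᵥ z = z := by
    intro z
    rw [hFx, LinearMap.mem_ker]
    exact sub_eq_zero
  have hrk : finrank F Fx = 2 := by
    have h2 := LinearMap.finrank_range_add_finrank_ker (Matrix.toLin' (x : Matrix ι ι F) - 1)
    rw [hb.rk, Module.finrank_fintype_fun_eq_card, ← hFx] at h2
    omega
  have hli : LinearIndependent F ![u, v] := by
    rw [LinearIndependent.pair_iff]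
    intro s t hst
    have h2 := congrArg (fun z => polar Q z v) hst
    have h3 := congrArg (fun z => polar Q z u) hst
    simp only [polar_add_left, polar_smul_left, QuadraticMap.polar_zero_left, huv.pair, huv.pair', polself hF, smul_eq_mul, mul_one,
      mul_zero, add_zero, zero_add] at h2 h3
    exact ⟨h2, h3⟩
  have hspan : Submodule.span F {u, v} = Fx := by
    apply Submodule.eq_of_le_of_finrank_eq
    · rw [Submodule.span_le]
      rintro z (rfl | rfl)
      · exact (memF _).2 hu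
      · exact (memF _).2 hv
    · rw [hrk]
      have h2 := finrank_span_eq_card hli
      have h3 : Set.range ![u, v] = {u, v} := by
        ext z
        simp only [Matrix.range_cons, Matrix.range_empty, Set.union_empty, Set.mem_union, Set.mem_singleton_iff,
          Set.mem_insert_iff]
      rw [h3, Fintype.card_fin] at h2
      exact h2
  have heu : e *ᵥ u ∈ Submodule.span F {u, v} := by
    rw [hspan, memF, Matrix.mulVec_mulVec, hcomm, ← Matrix.mulVec_mulVec, hu]
  rw [Submodule.mem_span_pair] at heu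
  obtain ⟨s, t, hst⟩ := heu
  rw [← hst, polar_add_left, polar_smul_left, polar_smul_left, polself hF, huv.pair', smul_zero, zero_add, smul_eq_mul,
    mul_one] at h1
  rw [h1, zero_smul, add_zero] at hst
  exact huv.left_ne (not_eig hF he1 hst.symm)

variable {T : (ι → F) ≃+ (ι → F)} {σ : F ≃+* F} {μ : F}

theorem no_ext_refl [Nonempty ι] (hF : Nat.card F = 2) (hQ : Nondeg Q) (h5 : 5 ≤ Fintype.card ι)
    (hM : IsSemi Q T σ μ) {w : ι → F} (hw0 : w ≠ 0) (hw : ∀ z, T z = z + polar Q z w • w) {H : Subgroup (GL ι F)}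
    (hB : Bad hM H) (hirr : ¬ Red H) {E : Subalgebra F (Matrix ι ι F)} (hE : IsFieldSubalgebra 2 E)
    (hN : H ≤ subalgebraNormalizer E) : False := by
  obtain ⟨e, he, he1⟩ := gen4 hF hE
  have hTT : ∀ z, T (T z) = z := by
    intro z
    rw [hw (T z), hw z, polar_add_left, polar_smul_left, polself hF, smul_zero, add_zero, add_assoc,
      addself (V := ι → F) hF, add_zero]
  have hTfix : ∀ z, polar Q z w = 0 → T z = z := by
    intro z hz
    rw [hw, hz, zero_smul, add_zero]
  -- `H` and `e`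
  have hA : ∀ h ∈ H, (∀ z, (h : Matrix ι ι F) *ᵥ (e *ᵥ z) = e *ᵥ ((h : Matrix ι ι F) *ᵥ z)) ∨
      ∀ z, (h : Matrix ι ι F) *ᵥ (e *ᵥ z) = e *ᵥ ((h : Matrix ι ι F) *ᵥ z) + (h : Matrix ι ι F) *ᵥ z := by
    intro h hh
    rcases conj4 hF hE he he1 (hN hh) with h1 | h1
    · left
      intro z
      rw [Matrix.mulVec_mulVec, h1, ← Matrix.mulVec_mulVec]
    · right
      intro z
      rw [Matrix.mulVec_mulVec, h1, ← Matrix.mulVec_mulVec, Matrix.add_mulVec, Matrix.one_mulVec]
  have hA' : ∀ h ∈ H, (∀ z, (h : Matrix ι ι F) *ᵥ T (e *ᵥ T z) = T (e *ᵥ T ((h : Matrix ι ι F) *ᵥ z))) ∨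
      ∀ z, (h : Matrix ι ι F) *ᵥ T (e *ᵥ T z) = T (e *ᵥ T ((h : Matrix ι ι F) *ᵥ z)) + (h : Matrix ι ι F) *ᵥ z := by
    intro h hh
    obtain ⟨h₀, hh₀, rfl⟩ := hB.surj hh
    have h1 : ∀ z, (h₀ : Matrix ι ι F) *ᵥ T z = T ((tg hM h₀ : Matrix ι ι F) *ᵥ z) := by
      intro z
      have h2 := tg_apply hM h₀ (T z)
      rw [hTT] at h2
      rw [h2, hTT]
    rcases hA h₀ hh₀ with h2 | h2
    · left
      intro z
      rw [tg_apply, h2, h1]
    · right
      intro z
      rw [tg_apply, h2, h1, map_add, hTT]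
  -- a common vector
  have hex : ∀ h : GL ι F, ∃ z, z ≠ 0 ∧ e *ᵥ z = T (e *ᵥ T z) ∧
      e *ᵥ ((h : Matrix ι ι F) *ᵥ z) = T (e *ᵥ T ((h : Matrix ι ι F) *ᵥ z)) := by
    intro h
    let Ms : Fin 4 → Matrix ι ι F := ![1, e, (h : Matrix ι ι F), e * h]
    let f : (ι → F) →ₗ[F] (Fin 4 → F) := LinearMap.pi fun i => (polarBilin Q w).comp (Matrix.toLin' (Ms i))
    have hker : LinearMap.ker f ≠ ⊥ := by
      apply LinearMap.ker_ne_bot_of_finrank_lt
      rw [Module.finrank_fin_fun, Module.finrank_fintype_fun_eq_card]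
      omega
    obtain ⟨z, hz, hz0⟩ := Submodule.exists_mem_ne_zero_of_ne_bot hker
    have hz' : ∀ i, polar Q w (Ms i *ᵥ z) = 0 := fun i => congrFun (LinearMap.mem_ker.1 hz) i
    have z0 : polar Q z w = 0 := by
      rw [polar_comm]
      have := hz' 0
      change polar Q w ((1 : Matrix ι ι F) *ᵥ z) = 0 at this
      rwa [Matrix.one_mulVec] at this
    have z1 : polar Q (e *ᵥ z) w = 0 := by
      rw [polar_comm]
      exact hz' 1
    have z2 : polar Q ((h : Matrix ι ι F) *ᵥ z) w = 0 := by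
      rw [polar_comm]
      exact hz' 2
    have z3 : polar Q (e *ᵥ ((h : Matrix ι ι F) *ᵥ z)) w = 0 := by
      rw [polar_comm, Matrix.mulVec_mulVec]
      exact hz' 3
    exact ⟨z, hz0, by rw [hTfix z z0, hTfix _ z1], by rw [hTfix _ z2, hTfix _ z3]⟩
  have hinj : ∀ (h : GL ι F) (z : ι → F), (h : Matrix ι ι F) *ᵥ z = 0 → z = 0 := by
    intro h z hz
    by_contra hne
    exact mulVec_ne_zero h hne hz
  -- the two actions agree
  have hsame : ∀ h ∈ H, ∀ z, e *ᵥ z = T (e *ᵥ T z) →
      e *ᵥ ((h : Matrix ι ι F) *ᵥ z) = T (e *ᵥ T ((h : Matrix ι ι F) *ᵥ z)) := by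
    intro h hh
    obtain ⟨z₀, hz₀, hr, hr'⟩ := hex h
    rcases hA h hh with h1 | h1
    · rcases hA' h hh with h2 | h2
      · intro z hz
        rw [← h1, ← h2, ← hz]
      · exfalso
        apply hz₀
        apply hinj h
        have h3 := h2 z₀
        rw [← hr, h1, ← hr'] at h3
        exact left_eq_add.1 h3
    · rcases hA' h hh with h2 | h2
      · exfalso
        apply hz₀
        apply hinj h
        have h3 := h2 z₀
        rw [← hr, h1, ← hr'] at h3
        exact add_eq_left.1 h3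
      · intro z hz
        have h3 := h1 z
        rw [hz, h2 z] at h3
        exact (add_right_cancel h3).symm
  let R : Submodule F (ι → F) :=
    { carrier := {z | e *ᵥ z = T (e *ᵥ T z)}
      add_mem' := by
        intro a b ha hb
        change e *ᵥ (a + b) = T (e *ᵥ T (a + b))
        rw [map_add, Matrix.mulVec_add, Matrix.mulVec_add, map_add, ← ha, ← hb]
      zero_mem' := by
        change e *ᵥ 0 = T (e *ᵥ T 0)
        rw [map_zero, Matrix.mulVec_zero, map_zero]
      smul_mem' := by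
        intro c a ha
        change e *ᵥ (c • a) = T (e *ᵥ T (c • a))
        rw [semi_smul hF hM, Matrix.mulVec_smul, Matrix.mulVec_smul, semi_smul hF hM, ← ha] }
  have hR0 : R ≠ ⊥ := by
    intro h0
    obtain ⟨z₀, hz₀, hr, -⟩ := hex 1
    have h1 : z₀ ∈ R := hr
    rw [h0] at h1
    exact hz₀ ((Submodule.mem_bot F).1 h1)
  have hRtop : R = ⊤ := by
    by_contra hne
    exact hirr ⟨R, hR0, hne, fun h hh => mem_stab.2 fun z hz => hsame h hh z hz⟩
  obtain ⟨z, hz⟩ := hQ.exists_polar_eq hw0 1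
  have h1 : e *ᵥ z = T (e *ᵥ T z) := by
    have : z ∈ R := by rw [hRtop]; trivial
    exact this
  have h2 : T (e *ᵥ z) = e *ᵥ T z := by rw [h1, hTT]
  rw [hw z, hw (e *ᵥ z), polar_comm Q z w, hz, one_smul, Matrix.mulVec_add] at h2
  exact hw0 (not_eig hF he1 (add_left_cancel h2).symm)

end Cfsg.Agent.H688.Spr.Two
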