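import Cfsg.Agent.H688.Spr.TwoB
import Cfsg.Agent.H688.Spr.Minus
import Cfsg.Agent.AutOrth.Main

/-!
# S3938, `PΩ⁻₁₈(2)` (helper688)

For a transvection the element is `neg 7 + Tm`, for every other isometry it is `neg 8 + 1`.
-/

set_option autoImplicit false
set_option linter.unusedSectionVars false

namespace Cfsg.Agent.H688.Spr.Two

open Cfsg Cfsg.Geo Module
open QuadraticMap hiding proj
open Cfsg.Agent.H278.Cov Cfsg.Agent.H383.Cov Cfsg.Agent.H688.Cov
open Cfsg.Agent.LieClassical.OrthCore Cfsg.Agent.LieClassical.OrthTrans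
open Cfsg.Agent.AutOrth.SemiSim (IsSemi)
open Cfsg.Agent.H377 (HasSign sumQ sumQ_apply sumQ_nondeg hypQ hypQ_apply hypQ_nondeg hasSign_mul)
open Cfsg.Agent.H604.Spr (Bad tg tg_apply exists_om)
open Cfsg.Agent.H424.Spr (Spr)
open Cfsg.Agent.H906.Cov (exists_num)
open scoped MatrixGroups Matrix

variable {ι : Type} [Fintype ι] [DecidableEq ι] {F : Type} [Field F] [Finite F] {Q : QuadraticForm F (ι → F)}
  {T : (ι → F) ≃+ (ι → F)} {σ : F ≃+* F} {μ : F}

/-- transport along a matrix -/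
theorem trans_hyp (hG : Good Q) {u v u' v' : ι → F} (h : Hyp Q u v) (h' : Hyp Q u' v') :
    ∃ g ∈ omegaGL ⇑Q, (g : Matrix ι ι F) *ᵥ u = u' ∧ (g : Matrix ι ι F) *ᵥ v = v' := by
  obtain ⟨g, hg, h1, h2⟩ := hG.trans_hyp h h'
  obtain ⟨g', hg', rfl⟩ := exists_om hG hg
  exact ⟨g', hg', h1, h2⟩

theorem gl_inv (g : GL ι F) (z : ι → F) :
    ((g⁻¹ : GL ι F) : Matrix ι ι F) *ᵥ ((g : Matrix ι ι F) *ᵥ z) = z ∧
      (g : Matrix ι ι F) *ᵥ (((g⁻¹ : GL ι F) : Matrix ι ι F) *ᵥ z) = z := by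
  constructor
  · rw [Matrix.mulVec_mulVec, ← Units.val_mul, inv_mul_cancel, Units.val_one, Matrix.one_mulVec]
  · rw [Matrix.mulVec_mulVec, ← Units.val_mul, mul_inv_cancel, Units.val_one, Matrix.one_mulVec]

/-- the image of an invariant subspace under `T` -/
theorem bad_map (hF : Nat.card F = 2) {hM : IsSemi Q T σ μ} {H : Subgroup (GL ι F)} (hB : Bad hM H)
    {W : Submodule F (ι → F)} (hW : ∀ h ∈ H, ∀ w ∈ W, (h : Matrix ι ι F) *ᵥ w ∈ W) :
    ∃ W' : Submodule F (ι → F), finrank F W' = finrank F W ∧ (∀ z, z ∈ W' ↔ ∃ w ∈ W, T w = z) ∧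
      ∀ h ∈ H, ∀ w ∈ W', (h : Matrix ι ι F) *ᵥ w ∈ W' := by
  let L : (ι → F) ≃ₗ[F] (ι → F) := { T with map_smul' := fun c v => semi_smul hF hM c v }
  have hL : ∀ z, L z = T z := fun _ => rfl
  refine ⟨W.map (L : (ι → F) →ₗ[F] (ι → F)), LinearEquiv.finrank_map_eq L W, ?_, ?_⟩
  · intro z
    constructor
    · rintro ⟨w, hw, rfl⟩
      exact ⟨w, hw, rfl⟩
    · rintro ⟨w, hw, rfl⟩
      exact ⟨w, hw, rfl⟩
  · rintro h hh _ ⟨w, hw, rfl⟩
    obtain ⟨h₀, hh₀, rfl⟩ := hB.surj hh
    refine ⟨(h₀ : Matrix ι ι F) *ᵥ w, hW h₀ hh₀ w hw, ?_⟩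
    exact (tg_apply hM h₀ w).symm

/-- **not a transvection** -/
theorem caseA [Nonempty ι] (hF : Nat.card F = 2) (hG : Good Q) (og : OgO ι F) (hcard : Fintype.card ι = 2 * 9)
    (hmod : Mod Q 9 (-1)) (hM : IsSemi Q T σ μ) (hT : ∃ v, T v ≠ v) (hnr : ∀ w, ∃ z, T z ≠ z + polar Q z w • w) :
    ∃ B ∈ omegaGL ⇑Q, ∀ H, Bad hM H → B ∉ H := by
  have hQ := hG.nondeg
  have hev : ∀ v, Q (T v) = Q v := semi_form hF hM
  obtain ⟨u, v, huv, hTu, hTv, hTuv⟩ := exists_pair hF hG (by
    rw [Module.finrank_fintype_fun_eq_card]; omega) hM hT hnr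
  obtain ⟨N, hN⟩ := exists_num (q := Nat.card F) (n := 2 * 9) (k := 2 * 8) (isPrimePow_card F) (by omega) (by omega)
    (by omega) (fun h => by omega) (by omega)
  replace hN := num_card hN hcard
  obtain ⟨x, hx, ⟨i, hblk, hodd, hdv, hnum⟩, Q₁, S, e, -, hxM, he, -, -, hsmall⟩ :=
    exists_negB (V' := F × F) hQ (m := 9) (j := 8) (c := 1) hcard rfl hN (by simp)
    hypQ_nondeg (hasSign_mul (F := F)) (R := 1) (T := 1) (fun _ => rfl) (one_mul _) (M := 1) (one_pow _)
    (Nat.coprime_one_right _) (by simpa using hmod)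
  -- the standard pair
  set u₀ := e.symm (0, ((1 : F), (0 : F))) with hu₀
  set v₀ := e.symm (0, ((0 : F), (1 : F))) with hv₀
  have hQe : ∀ p : F × F, Q (e.symm (0, p)) = p.1 * p.2 := by
    intro p
    rw [← he, e.apply_symm_apply, sumQ_apply, map_zero, zero_add, hypQ_apply]
  have hh : Hyp Q u₀ v₀ := by
    refine ⟨by rw [hu₀, hQe, mul_zero], by rw [hv₀, hQe, zero_mul], ?_⟩
    have h1 : u₀ + v₀ = e.symm (0, ((1 : F), (1 : F))) := by
      rw [hu₀, hv₀, ← map_add]
      congr 1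
      refine Prod.ext (add_zero _) (Prod.ext (add_zero _) (zero_add _))
    rw [polar, h1, hu₀, hv₀, hQe, hQe, hQe]
    simp
  obtain ⟨g, hg, hgu, hgv⟩ := trans_hyp hG hh huv
  have hBu : ∀ p : F × F, (x : Matrix ι ι F) *ᵥ e.symm (0, p) = e.symm (0, p) := by
    intro p
    rw [hxM.apply, e.apply_symm_apply]
    congr 1
    exact Prod.ext (map_zero S) rfl
  have hpowfix : ∀ (y : GL ι F) (z : ι → F), (y : Matrix ι ι F) *ᵥ z = z → ∀ n : ℕ,
      ((y ^ n : GL ι F) : Matrix ι ι F) *ᵥ z = z := by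
    intro y z hz n
    induction n with
    | zero => rw [pow_zero, Units.val_one, Matrix.one_mulVec]
    | succ n ih => rw [pow_succ, Units.val_mul, ← Matrix.mulVec_mulVec, hz, ih]
  refine ⟨g * x * g⁻¹, Subgroup.mul_mem _ (Subgroup.mul_mem _ hg hx) (Subgroup.inv_mem _ hg), ?_⟩
  intro H hB hBH
  have hH := hB.le.trans omegaGL_le
  have hBv : ∀ z z', (x : Matrix ι ι F) *ᵥ z = z → (g : Matrix ι ι F) *ᵥ z = z' →
      ((g * x * g⁻¹ : GL ι F) : Matrix ι ι F) *ᵥ z' = z' := by
    intro z z' hz hz'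
    rw [Units.val_mul, Units.val_mul, ← Matrix.mulVec_mulVec, ← Matrix.mulVec_mulVec, ← hz', (gl_inv g z).1, hz]
  by_cases hred : Red H
  · obtain ⟨W, hW0, hWd, hW⟩ := exists_small hQ hH hred
    -- small invariant subspaces lie in the plane
    have key : ∀ W : Submodule F (ι → F), 2 * finrank F W ≤ Fintype.card ι →
        (∀ h ∈ H, ∀ w ∈ W, (h : Matrix ι ι F) *ᵥ w ∈ W) → ∀ w ∈ W, ∃ a b : F, w = a • u + b • v := by
      intro W hWd hW w hw
      have h1 := hsmall (W.map (Matrix.toLin' ((g⁻¹ : GL ι F) : Matrix ι ι F))) (by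
        rintro _ ⟨z, hz, rfl⟩
        refine ⟨_, hW _ hBH z hz, ?_⟩
        rw [Matrix.toLin'_apply, Matrix.toLin'_apply, Matrix.mulVec_mulVec, Matrix.mulVec_mulVec, ← Units.val_mul,
          ← Units.val_mul]
        congr 2
        group) (by rwa [finrank_map_gl]) _ ⟨w, hw, rfl⟩
      rw [Matrix.toLin'_apply] at h1
      set z := ((g⁻¹ : GL ι F) : Matrix ι ι F) *ᵥ w with hz
      have hzw : (g : Matrix ι ι F) *ᵥ z = w := (gl_inv g w).2
      refine ⟨(e z).2.1, (e z).2.2, ?_⟩
      have h2 : z = (e z).2.1 • u₀ + (e z).2.2 • v₀ := by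
        apply e.injective
        rw [map_add, map_smul, map_smul, hu₀, hv₀, e.apply_symm_apply, e.apply_symm_apply]
        refine Prod.ext ?_ (Prod.ext ?_ ?_)
        · rw [h1]
          change 0 = (e z).2.1 • (0 : Fin (2 * 8) → F) + (e z).2.2 • (0 : Fin (2 * 8) → F)
          rw [smul_zero, smul_zero, add_zero]
        · change (e z).2.1 = (e z).2.1 * 1 + (e z).2.2 * 0
          ring
        · change (e z).2.2 = (e z).2.1 * 0 + (e z).2.2 * 1
          ring
      rw [← hzw]
      nth_rewrite 1 [h2]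
      rw [Matrix.mulVec_add, Matrix.mulVec_smul, Matrix.mulVec_smul, hgu, hgv]
    obtain ⟨w, hw, hw0⟩ := Submodule.exists_mem_ne_zero_of_ne_bot hW0
    obtain ⟨W', hr', hm', hW'⟩ := bad_map hF hB hW
    obtain ⟨W'', hr'', hm'', hW''⟩ := bad_map hF hB hW'
    have hd' : 2 * finrank F W' ≤ Fintype.card ι := by rwa [hr']
    have hd'' : 2 * finrank F W'' ≤ Fintype.card ι := by rwa [hr'', hr']
    -- vectors of the plane
    have hpl : ∀ a b : F, Q (a • u + b • v) = a * b := by
      intro a b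
      rw [Q_add, QuadraticMap.map_smul, QuadraticMap.map_smul, huv.left, huv.right, polar_smul_left, polar_smul_right,
        huv.pair]
      simp
    have hcase : ∀ z, z ≠ 0 → (∃ a b : F, z = a • u + b • v) → z = u ∨ z = v ∨ z = u + v := by
      rintro z hz ⟨a, b, rfl⟩
      rcases f2 hF a with rfl | rfl <;> rcases f2 hF b with rfl | rfl
      · rw [zero_smul, zero_smul, add_zero] at hz
        exact absurd rfl hz
      · right; left
        rw [zero_smul, one_smul, zero_add]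
      · left
        rw [zero_smul, one_smul, add_zero]
      · right; right
        rw [one_smul, one_smul]
    have hQuv : Q (u + v) = 1 := by
      have := hpl 1 1
      rwa [one_smul, one_smul, mul_one] at this
    have hTne : ∀ z, z ≠ 0 → T z ≠ 0 := by
      intro z hz h0
      exact hz (T.injective (h0.trans (map_zero T).symm))
    have h1 := hcase w hw0 (key W hWd hW w hw)
    have h2 := hcase (T w) (hTne w hw0) (key W' hd' hW' _ ((hm' _).2 ⟨w, hw, rfl⟩))
    have h3 := hcase (T (T w)) (hTne _ (hTne w hw0)) (key W'' hd'' hW'' _ ((hm'' _).2 ⟨_, (hm' _).2 ⟨w, hw, rfl⟩, rfl⟩))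
    have q1 : Q (T w) = Q w := hev w
    have q2 : Q (T (T w)) = Q (T w) := hev _
    rcases h1 with rfl | rfl | rfl
    · rcases h2 with h2 | h2 | h2
      · exact hTu h2
      · rw [h2] at h3 q2
        rcases h3 with h3 | h3 | h3
        · exact hTuv (by rw [map_add, h2, h3, add_comm])
        · exact hTv h3
        · rw [h3, hQuv, huv.right] at q2
          exact one_ne_zero q2
      · rw [h2, hQuv, huv.left] at q1
        exact one_ne_zero q1
    · rcases h2 with h2 | h2 | h2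
      · rw [h2] at h3 q2
        rcases h3 with h3 | h3 | h3
        · exact hTu h3
        · exact hTuv (by rw [map_add, h2, h3, add_comm])
        · rw [h3, hQuv, huv.left] at q2
          exact one_ne_zero q2
      · exact hTv h2
      · rw [h2, hQuv, huv.right] at q1
        exact one_ne_zero q1
    · rcases h2 with h2 | h2 | h2
      · rw [h2, hQuv, huv.left] at q1
        exact zero_ne_one q1
      · rw [h2, hQuv, huv.right] at q1
        exact zero_ne_one q1
      · exact hTuv h2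
  · have hxi : ((g * x * g⁻¹) ^ i : GL ι F) = g * x ^ i * g⁻¹ := conjpow g x i
    have hmem := H.pow_mem hBH i
    rw [hxi] at hmem
    have hord : orderOf (g * x ^ i * g⁻¹) = orderOf (x ^ i) := orderOf_conj _ _
    rcases og _ _ (isND hQ) H hB.le hB.ne _ hmem (by rw [hord]; exact hnum) with h3 | ⟨r, E, hr, hrd, hE, hEN⟩
    · exact hred h3
    · have hr2 : r = 2 := by
        rw [hcard] at hrd
        exact (Nat.prime_dvd_prime_iff_eq hr Nat.prime_two).1 hrd
      subst hr2
      refine no_ext_even hF hQ hH hred hE hEN hmem (a := 8) (by norm_num) ⟨4, rfl⟩ (by rw [hord]; exact hodd)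
        (by rw [hord]; exact hdv) (hblk.conj g) (by omega) huv ?_ ?_
      · rw [← hxi]
        exact hpowfix _ _ (hBv u₀ u (hBu _) hgu) i
      · rw [← hxi]
        exact hpowfix _ _ (hBv v₀ v (hBu _) hgv) i

/-- a nonsingular vector is the sum of a hyperbolic pair -/
theorem split_pair (hF : Nat.card F = 2) (hG : Good Q) {w : ι → F} (hw : Q w = 1) :
    ∃ u v, Hyp Q u v ∧ u + v = w := by
  obtain ⟨x, y, hxy⟩ := hG.exists_hyp
  obtain ⟨u, hu, huw⟩ := exists_sing_polar_one hG.nondeg hxy (v := w) (by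
    rintro rfl
    rw [map_zero] at hw
    exact zero_ne_one hw)
  refine ⟨u, w + u, ⟨hu, ?_, ?_⟩, ?_⟩
  · rw [Q_add, hw, hu, polar_comm, huw, add_zero, two0 hF]
  · rw [polar_add_right, huw, polself hF, add_zero]
  · rw [add_comm w u, ← add_assoc, addself hF, zero_add]

/-- **a transvection** -/
theorem caseB [Nonempty ι] (hF : Nat.card F = 2) (hG : Good Q) (og : OgO ι F) (hcard : Fintype.card ι = 2 * 9)
    (hmod : Mod Q 9 (-1)) (hM : IsSemi Q T σ μ) (hT : ∃ v, T v ≠ v) {w : ι → F}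
    (hw : ∀ z, T z = z + polar Q z w • w) :
    ∃ B ∈ omegaGL ⇑Q, ∀ H, Bad hM H → B ∉ H := by
  have hQ := hG.nondeg
  have hw0 : w ≠ 0 := by
    rintro rfl
    obtain ⟨v, hv⟩ := hT
    apply hv
    rw [hw, smul_zero, add_zero]
  have hQw : Q w = 1 := by
    obtain ⟨z, hz⟩ := hQ.exists_polar_eq hw0 1
    have h1 := semi_form hF hM z
    rw [hw, polar_comm, hz, one_smul, Q_add, polar_comm, hz] at h1
    rcases f2 hF (Q w) with h | h
    · rw [h, add_zero] at h1
      have : (1 : F) = 0 := by linear_combination h1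
      exact absurd this one_ne_zero
    · exact h
  obtain ⟨u, v, huv, huvw⟩ := split_pair hF hG hQw
  obtain ⟨N, hN⟩ := exists_num (q := Nat.card F) (n := 2 * 9) (k := 2 * 7) (isPrimePow_card F) (by omega) (by omega)
    (by omega) (fun h => by omega) (by omega)
  replace hN := num_card hN hcard
  obtain ⟨K, _, _, _, τ, c, ε, hd⟩ := exists_HD F (h := 1) le_rfl
  obtain ⟨x, Q₁, S, e, s, s', ht⟩ := exists_TD hQ hcard (m := 9) (j := 7) (h := 1) rfl hN hd hmod
  have hfd : FiniteDimensional F K := Module.Finite.of_finite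
  have hQe : ∀ p : (Fin (2 * 7) → F) × (K × K), Q (e.symm p) = Q₁ p.1 + hermQ τ p.2 := by
    intro p
    rw [← ht.form, e.apply_symm_apply, sumQ_apply]
  have hpe : ∀ (b : Fin (2 * 7) → F) (p p' : K × K), polar Q (e.symm (0, p)) (e.symm (b, p')) =
      polar (hermQ (F := F) τ) p p' := by
    intro b p p'
    have h1 : e.symm (0, p) + e.symm (b, p') = e.symm (b, p + p') := by
      rw [← map_add]
      congr 1
      exact Prod.ext (zero_add _) rfl
    rw [polar, polar, h1, hQe, hQe, hQe, map_zero]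
    ring
  -- the standard nonsingular vector
  set b : Fin (2 * 7) → F := fun _ => 1 with hb
  have hb0 : b ≠ 0 := by
    intro h0
    exact one_ne_zero (congrFun h0 ⟨0, by omega⟩)
  obtain ⟨t, ht1⟩ := Algebra.trace_surjective F K (1 + Q₁ b)
  set w' := e.symm (b, (t, (1 : K))) with hw'
  have hQw' : Q w' = 1 := by
    rw [hw', hQe, hermQ_apply]
    change Q₁ b + Algebra.trace F K (t * τ 1) = 1
    rw [map_one, mul_one, ht1]
    have h1 := addself (V := F) hF (Q₁ b)
    linear_combination h1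
  obtain ⟨u', v', huv', huvw'⟩ := split_pair hF hG hQw'
  obtain ⟨g, hg, hgu, hgv⟩ := trans_hyp hG huv' huv
  have hgw : (g : Matrix ι ι F) *ᵥ w' = w := by
    rw [← huvw', ← huvw, Matrix.mulVec_add, hgu, hgv]
  refine ⟨g * x * g⁻¹, Subgroup.mul_mem _ (Subgroup.mul_mem _ hg ht.mem) (Subgroup.inv_mem _ hg), ?_⟩
  intro H hB hBH
  have hH := hB.le.trans omegaGL_le
  by_cases hred : Red H
  · obtain ⟨W, hW0, hWd, hW⟩ := exists_small hQ hH hred
    have key : ∀ W : Submodule F (ι → F), 2 * finrank F W ≤ Fintype.card ι →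
        (∀ h ∈ H, ∀ w ∈ W, (h : Matrix ι ι F) *ᵥ w ∈ W) →
        W.map (Matrix.toLin' ((g⁻¹ : GL ι F) : Matrix ι ι F)) = ⊥ ∨
        W.map (Matrix.toLin' ((g⁻¹ : GL ι F) : Matrix ι ι F)) = WU e ((⊤ : Submodule F K).prod ⊥) ∨
        W.map (Matrix.toLin' ((g⁻¹ : GL ι F) : Matrix ι ι F)) = WU e ⊤ := by
      intro W hWd hW
      refine ht.small ?_ (by rw [finrank_map_gl]; omega)
      rintro _ ⟨z, hz, rfl⟩
      refine ⟨_, hW _ hBH z hz, ?_⟩
      rw [Matrix.toLin'_apply, Matrix.toLin'_apply, Matrix.mulVec_mulVec, Matrix.mulVec_mulVec, ← Units.val_mul,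
        ← Units.val_mul]
      congr 2
      group
    obtain ⟨W', hr', hm', hW'⟩ := bad_map hF hB hW
    have hd' : 2 * finrank F W' ≤ Fintype.card ι := by rwa [hr']
    have hr1 := ht.rank1
    have hr2 := ht.rank2
    have hn0 : finrank F W ≠ 0 := fun h0 => hW0 (Submodule.finrank_eq_zero.1 h0)
    have e1 : finrank F (W.map (Matrix.toLin' ((g⁻¹ : GL ι F) : Matrix ι ι F))) = finrank F W := finrank_map_gl _ _
    have e2 : finrank F (W'.map (Matrix.toLin' ((g⁻¹ : GL ι F) : Matrix ι ι F))) = finrank F W := by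
      rw [finrank_map_gl, hr']
    have hWW : W.map (Matrix.toLin' ((g⁻¹ : GL ι F) : Matrix ι ι F)) =
        W'.map (Matrix.toLin' ((g⁻¹ : GL ι F) : Matrix ι ι F)) := by
      rcases key W hWd hW with h1 | h1 | h1
      · rw [h1, finrank_bot] at e1
        exact absurd e1.symm hn0
      · rcases key W' hd' hW' with h2 | h2 | h2
        · rw [h2, finrank_bot] at e2
          exact absurd e2.symm hn0
        · rw [h1, h2]
        · rw [h1, hr1] at e1
          rw [h2, hr2] at e2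
          omega
      · rcases key W' hd' hW' with h2 | h2 | h2
        · rw [h2, finrank_bot] at e2
          exact absurd e2.symm hn0
        · rw [h1, hr2] at e1
          rw [h2, hr1] at e2
          omega
        · rw [h1, h2]
    have hmem : ∀ z, (g : Matrix ι ι F) *ᵥ z ∈ W ↔ z ∈ W.map (Matrix.toLin' ((g⁻¹ : GL ι F) : Matrix ι ι F)) := by
      intro z
      constructor
      · intro hz
        exact ⟨_, hz, (gl_inv g z).1⟩
      · rintro ⟨y, hy, rfl⟩
        rw [Matrix.toLin'_apply, (gl_inv g y).2]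
        exact hy
    have hTW : ∀ z ∈ W, T z ∈ W := by
      intro z hz
      have h1 : T z ∈ W' := (hm' _).2 ⟨z, hz, rfl⟩
      have h2 := (hmem (((g⁻¹ : GL ι F) : Matrix ι ι F) *ᵥ T z)).2 (by
        rw [hWW]
        exact ⟨_, h1, rfl⟩)
      rwa [(gl_inv g (T z)).2] at h2
    have hsub : ∀ r : K, e.symm (0, (r, 0)) ∈ W.map (Matrix.toLin' ((g⁻¹ : GL ι F) : Matrix ι ι F)) := by
      intro r
      rcases key W hWd hW with h1 | h1 | h1
      · rw [h1, finrank_bot] at e1
        exact absurd e1.symm hn0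
      · rw [h1, mem_WU, e.apply_symm_apply]
        exact ⟨rfl, trivial, rfl⟩
      · rw [h1, mem_WU, e.apply_symm_apply]
        exact ⟨rfl, trivial⟩
    have hwW : w' ∉ W.map (Matrix.toLin' ((g⁻¹ : GL ι F) : Matrix ι ι F)) := by
      intro h0
      rcases key W hWd hW with h1 | h1 | h1
      · rw [h1, finrank_bot] at e1
        exact absurd e1.symm hn0
      · rw [h1, mem_WU, e.apply_symm_apply] at h0
        exact hb0 h0.1
      · rw [h1, mem_WU, e.apply_symm_apply] at h0
        exact hb0 h0.1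
    have htr : ∀ r : K, Algebra.trace F K r = 0 := by
      intro r
      have h1 := (hmem _).2 (hsub r)
      have h2 := W.sub_mem (hTW _ h1) h1
      rw [hw, add_sub_cancel_left] at h2
      have h3 : polar Q ((g : Matrix ι ι F) *ᵥ e.symm (0, (r, 0))) w = Algebra.trace F K r := by
        rw [← hgw, polar_isom (omegaGL_le hg), hw', hpe, hermQ_polar]
        change Algebra.trace F K (r * τ 1) + Algebra.trace F K (t * τ 0) = _
        rw [map_one, mul_one, map_zero, mul_zero, map_zero, add_zero]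
      rw [h3] at h2
      rcases f2 hF (Algebra.trace F K r) with h4 | h4
      · exact h4
      · exfalso
        rw [h4, one_smul] at h2
        apply hwW
        rw [← hmem, hgw]
        exact h2
    obtain ⟨r, hr⟩ := Algebra.trace_surjective F K 1
    rw [htr] at hr
    exact zero_ne_one hr
  · have hxi : ((g * x * g⁻¹) ^ s : GL ι F) = g * x ^ s * g⁻¹ := conjpow g x s
    have hmem := H.pow_mem hBH s
    rw [hxi] at hmem
    have hord : orderOf (g * x ^ s * g⁻¹) = orderOf (x ^ s) := orderOf_conj _ _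
    rcases og _ _ (isND hQ) H hB.le hB.ne _ hmem (by rw [hord, ht.ord]; exact ht.num) with h3 | ⟨r, E, hr, hrd, hE, hEN⟩
    · exact hred h3
    · have hr2 : r = 2 := by
        rw [hcard] at hrd
        exact (Nat.prime_dvd_prime_iff_eq hr Nat.prime_two).1 hrd
      subst hr2
      exact no_ext_refl hF hQ (by omega) hM hw0 hw hB hred hE hEN

/-- **`PΩ⁻₁₈(2)`** -/
theorem row_nine [Nonempty ι] (hF : Nat.card F = 2) (hG : Good Q) (og : OgO ι F) (hcard : Fintype.card ι = 2 * 9)
    (hmod : Mod Q 9 (-1)) {α : MulAut (POmega F ⇑Q)} (hα : AutOrth.Main.Ind ⇑Q α) (hα1 : α ≠ 1) :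
    ∃ x : POmega F ⇑Q, ∀ K : Subgroup (POmega F ⇑Q), x ∈ K → (∀ k ∈ K, α k ∈ K) → K = ⊤ := by
  have := Fintype.ofFinite F
  obtain ⟨σ, μ, T, ⟨h1, h2, h3⟩, h4⟩ := hα
  have hM : IsSemi Q T σ μ := ⟨h1, h2, h3⟩
  have hT : ∃ v, T v ≠ v := by
    by_contra hcon
    push Not at hcon
    apply hα1
    ext x
    obtain ⟨g, rfl⟩ := QuotientGroup.mk_surjective x
    rw [h4 g g (fun v => by rw [hcon, hcon]), MulAut.one_apply]
  by_cases hr : ∃ w, ∀ z, T z = z + polar Q z w • w
  · obtain ⟨w, hw⟩ := hr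
    obtain ⟨B, hB, hB'⟩ := caseB hF hG og hcard hmod hM hT hw
    exact Cfsg.Agent.H604.Spr.exists_of_bad hG hM h4 hB hB'
  · push Not at hr
    obtain ⟨B, hB, hB'⟩ := caseA hF hG og hcard hmod hM hT hr
    exact Cfsg.Agent.H604.Spr.exists_of_bad hG hM h4 hB hB'

end Cfsg.Agent.H688.Spr.Two
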